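import Cfsg.Agent.H997.PF.Rows
import Cfsg.Agent.H938.Sax.SpRow
import Cfsg.Agent.H278.ElCore
import Cfsg.Agent.H503.El.O73
import Cfsg.Agent.H481.TBound
import Cfsg.Agent.FastGrp
import Cfsg.Agent.Prune
set_option linter.all false

section
prune_inst 0x7f00000000000000000000000000000000000000000000000000000000000000000000000000000000000000000000000000000000000000000000000000000000000000000000000000000000000000003fffffffffffffffffffffffffffbeffbdffffffff

-- part: H997/PF/RowsCl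
section
set_option linter.all false
open scoped Cfsg.Agent.FastGrp

-- part: H997/PF/Ld
section
/-!
# The local data `LD` for linear groups (helper997, for S3522)
-/

set_option autoImplicit false
set_option linter.style.haveILetI false

namespace Cfsg.Agent.H997.PF

open Module Polynomial Cfsg.Agent.H884.El Cfsg.Agent.H938.Sax Cfsg.Agent.H264.GN
open Cfsg.Agent.H951 (fx cm Inv Irr)

variable {F : Type} [Field F] [Fintype F] {ι : Type} [Fintype ι] [DecidableEq ι] {X T : Type*} [Group X] [Group T]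
  [Finite X] {e s : ℕ}

/-- an element of order `r` prime to `e` which normalises `⟨z⟩`, `|z| = s`, centralises `z` -/
theorem comm_of_cover (hs : PP (Nat.card F) e s) (he : 2 ≤ e) (hdim : Fintype.card ι < 2 * e)
    (σ : X →* Matrix.GeneralLinearGroup ι F) (hσ : Function.Injective σ) (π : X →* T) (hπ : Function.Surjective π)
    (hker : ∀ z, π z = 1 → z ∈ Subgroup.center X ∧ z ^ 2 = 1) {r : ℕ} (hr : r.Prime) (hr2 : r ≠ 2)
    (hre : r.Coprime e) {y z : T} (hyo : orderOf y = r) (hzo : orderOf z = s)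
    (hyz : y * z * y⁻¹ ∈ Subgroup.zpowers z) : y * z = z * y := by
  have hfr := Fact.mk hs.prime
  have hsodd : Odd s := hs.odd he
  have hrodd : Odd r := hr.odd_of_ne_two hr2
  obtain ⟨j, hj⟩ : ∃ j : ℕ, y * z * y⁻¹ = z ^ j := by
    have h1 : y * z * y⁻¹ ∈ Submonoid.powers z := by
      have : Finite T := Finite.of_surjective π hπ
      exact mem_powers_iff_mem_zpowers.2 hyz
    obtain ⟨j, hj⟩ := h1
    exact ⟨j, hj.symm⟩
  obtain ⟨x₀, rfl⟩ := hπ z
  obtain ⟨y₀, rfl⟩ := hπ y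
  obtain ⟨n, h1, h2⟩ := exists_lift_odd π (fun z hz => (hker z hz).2) hsodd hzo
  obtain ⟨m, h3, h4⟩ := exists_lift_odd π (fun z hz => (hker z hz).2) hrodd hyo
  generalize x₀ ^ n = a at h1 h2
  generalize y₀ ^ m = b at h3 h4
  rw [← h1, ← h3] at hj
  rw [← h1, ← h3]
  -- the relation lifts
  have h5 : π (b * a * b⁻¹ * (a ^ j)⁻¹) = 1 := by
    rw [map_mul, map_mul, map_mul, map_inv, map_inv, map_pow, hj, mul_inv_cancel]
  obtain ⟨hc, hz2⟩ := hker _ h5
  obtain ⟨z, hz⟩ : ∃ z, z = b * a * b⁻¹ * (a ^ j)⁻¹ := ⟨_, rfl⟩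
  rw [← hz] at hc hz2
  have h6 : b * a * b⁻¹ = z * a ^ j := by rw [hz]; group
  have h7 : (b * a * b⁻¹) ^ s = 1 := by
    rw [conj_pow, ← h2, pow_orderOf_eq_one, mul_one, mul_inv_cancel]
  have h8 : (z * a ^ j) ^ s = z ^ s := by
    have hcomm : Commute z (a ^ j) := (Subgroup.mem_center_iff.1 hc (a ^ j)).symm
    rw [hcomm.mul_pow, ← pow_mul, mul_comm j s, pow_mul, ← h2, pow_orderOf_eq_one, one_pow, mul_one]
  have hz1 : z = 1 := by
    rw [← h6, h7] at h8
    obtain ⟨k, hk⟩ := hsodd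
    rw [hk, pow_succ, pow_mul, hz2, one_pow, one_mul] at h8
    exact h8.symm
  rw [hz1, one_mul] at h6
  have h9 : b * a = a ^ j * b := by rw [← h6]; group
  -- linear maps
  have hmul : ∀ g h : X, lin (σ (g * h)) = lin (σ g) * lin (σ h) := fun g h => by
    rw [map_mul, lin, Units.val_mul, Matrix.toLin'_mul]; rfl
  have hpow : ∀ (g : X) (k : ℕ), lin (σ (g ^ k)) = lin (σ g) ^ k := by
    intro g k
    induction k with
    | zero => rw [pow_zero, pow_zero, map_one, lin_one]
    | succ k ih => rw [pow_succ, pow_succ, hmul, ih]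
  have hx1 : lin (σ a) ^ s = 1 := by
    rw [← hpow, ← h2, pow_orderOf_eq_one, map_one, lin_one]
  have hxne : lin (σ a) ≠ 1 := by
    intro h
    rw [← lin_one] at h
    have h10 := hσ ((lin_injective h).trans (map_one σ).symm)
    rw [h10, orderOf_one] at h2
    exact hs.prime.one_lt.ne h2
  have hy1 : lin (σ b) ^ r = 1 := by
    rw [← hpow, ← h4, pow_orderOf_eq_one, map_one, lin_one]
  have hrel : lin (σ b) * lin (σ a) = lin (σ a) ^ j * lin (σ b) := by
    rw [← hmul, h9, hmul, hpow]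
  have hfin : finrank F (ι → F) = Fintype.card ι := Module.finrank_fintype_fun_eq_card F
  have hcm : finrank F (cm (lin (σ a))) = e := by
    have hr0 := hs.ne0 (by omega)
    have h10 : e ∣ finrank F (cm (lin (σ a))) := by
      rw [← ord_eq hs]
      exact H951.ord_dvd_finrank hx1 H951.inv_cm (H951.inf_fx_of_le_cm hr0 hx1 le_rfl)
    obtain ⟨k, hk⟩ := h10
    have h11 : finrank F (cm (lin (σ a))) ≤ finrank F (ι → F) := Submodule.finrank_le _
    have h12 : finrank F (cm (lin (σ a))) ≠ 0 := fun h0 => by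
      rw [Submodule.finrank_eq_zero, H951.cm, LinearMap.range_eq_bot, sub_eq_zero] at h0
      exact hxne h0
    have h13 : k = 1 := by
      have h14 : k < 2 := by
        by_contra hcon
        have := Nat.mul_le_mul_left e (show 2 ≤ k by omega)
        omega
      have h15 : k ≠ 0 := by rintro rfl; omega
      omega
    rw [hk, h13, mul_one]
  have h10 := Frat.comm_of_norm hs he hx1 hcm hrel hre hy1 hr.ne_zero
  rw [← hmul, ← hmul] at h10
  have h11 := hσ (lin_injective h10)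
  rw [← map_mul, h11, map_mul]

/-- **The local data** for `r`, `s` with `ord_s(q) = e`, `dim < 2 e`, `r` prime to `e`. -/
theorem ld_of_cover (hs : PP (Nat.card F) e s) (he : 2 ≤ e) (hdim : Fintype.card ι < 2 * e)
    (σ : X →* Matrix.GeneralLinearGroup ι F) (hσ : Function.Injective σ) (π : X →* T) (hπ : Function.Surjective π)
    (hker : ∀ z, π z = 1 → z ∈ Subgroup.center X ∧ z ^ 2 = 1) {d r : ℕ} (hr : r.Prime) (hr2 : r ≠ 2)
    (hre : r.Coprime e) (hrs : r ≠ s) (hrd : ¬ r ∣ d) (hsd : ¬ s ∣ d) (hex : ∃ x : T, orderOf x = r * s) :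
    LD T d r s where
  hr := hr
  hs := hs.prime
  hrs := hrs
  hrO := hrd
  hsO := hsd
  cyc := Cfsg.Agent.H264.FKS.cyc_of_gl
    (prim_of_pp (Nat.card_pos (α := F)) (by omega) hs) he hdim σ hσ π hπ
  ex := hex
  comm _ _ hy hz hyz := comm_of_cover hs he hdim σ hσ π hπ hker hr hr2 hre hy hz hyz

end Cfsg.Agent.H997.PF
end

-- part: H997/PF/RowsCl
section
/-!
# Full subgroups of the symplectic and orthogonal groups; rows for `S3522` (helper997)

`psp_main`, `oodd_main`, `oplus_main`, `ominus_main`: every proper subgroup misses a prime or is special.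
-/

set_option autoImplicit false
set_option linter.style.haveILetI false

namespace Cfsg.Agent.H997.PF

open Cfsg Cfsg.Geo Cfsg.Agent.OrdDiv Cfsg.Agent.H436 Cfsg.Agent.H264.FKS Cfsg.Agent.H264.GN Cfsg.Agent.H915.GN
  Cfsg.Agent.H938.Sax Cfsg.Agent.H884.El Cfsg.Agent.H278.El.Asm Cfsg.Agent.LieClassical.OmegaReindex
  Cfsg.Agent.LieClassical
open Cfsg.Agent.H278.El.SporNum (IsCl exc)
open Cfsg.Agent.H278.El.AltNum (dimOf surv)
open Cfsg.Agent.H884.Cx (excP)
open Cfsg.Agent.H901.SaxSp (InOMinus InExt psp_cases)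
open scoped MatrixGroups

/-- the subgroup `K` has a normal simple subgroup with name `g`, which is the simple group of a residual core -/
def SocN {T : Type} [Group T] (K : Subgroup T) (ι : Type) [Fintype ι] [DecidableEq ι] (F : Type) [Field F]
    (H : Subgroup (GL ι F)) (g : Grp) : Prop :=
  ∃ S : Subgroup K, S.Normal ∧ IsSimpleGroup S ∧ ¬ IsMulCommutative S ∧
    Subgroup.centralizer (S : Set K) = ⊥ ∧ IsNamed g S ∧
    ∃ P : Subgroup (GL ι F), IsResidualCore H P ∧ Nonempty (S ≃* P ⧸ (scalars ι F).subgroupOf P)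

/-- the same, and the core fixes no quadratic form -/
def SocNQ {T : Type} [Group T] (K : Subgroup T) (ι : Type) [Fintype ι] [DecidableEq ι] (F : Type) [Field F]
    (H : Subgroup (GL ι F)) (g : Grp) : Prop :=
  ∃ S : Subgroup K, S.Normal ∧ IsSimpleGroup S ∧ ¬ IsMulCommutative S ∧
    Subgroup.centralizer (S : Set K) = ⊥ ∧ IsNamed g S ∧
    ∃ P : Subgroup (GL ι F), IsResidualCore H P ∧
      (¬ ∃ Q : (ι → F) → F, IsNondegenerateQuadraticForm Q ∧ FixesQuadForm (matrixSet P) Q) ∧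
      Nonempty (S ≃* P ⧸ (scalars ι F).subgroupOf P)

theorem exists_pf (F : Type) [Field F] [Fintype F] :
    ∃ p f : ℕ, p.Prime ∧ 1 ≤ f ∧ Fintype.card F = p ^ f ∧ p ∣ Fintype.card F := by
  obtain ⟨p, f, hp, hf, h⟩ := (isPrimePow_nat_iff _).1 (Fintype.isPrimePow_card_of_field (α := F))
  exact ⟨p, f, hp, hf, h.symm, h ▸ dvd_pow_self p (by omega)⟩

section

variable {F : Type} [Field F] [Fintype F] {m : ℕ}

/-- **`PSp_{2m}(q)`, `m ≥ 3`, `q ≠ 2`** -/
theorem psp_main (tab : OrderTable.{0}) (hK : Kn) (hm : 3 ≤ m) (hq : Fintype.card F ≠ 2) {K : Subgroup (PSp m F)}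
    (hne : K ≠ ⊤) : PGap (PSp m F) K ∨ InOMinus m F (H262.El.pre K) ∨
      (m % 2 = 0 ∧ SocNQ K (Fin m ⊕ Fin m) F (H262.El.pre K) (.ominus m (Fintype.card F))) := by
  obtain ⟨p, f, hp, hf, hF, hpF⟩ := exists_pf F
  have hT : IsNamed (.psp m (Fintype.card F)) (PSp m F) := named_psp (F := F) (n := m) (by omega) (by omega)
  have hfin : Finite (PSp m F) := Quotient.finite _
  have hf1 : ¬ (p = 2 ∧ f = 1) := by
    rintro ⟨rfl, rfl⟩
    exact hq (by rw [hF, pow_one])
  rcases psp_cases (by omega) (fun h => by omega) (fun h => hq h.2) (fun h => by omega) hne with h | h | h | h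
  · exact Or.inl h
  · obtain ⟨P, hP, hnQ, -⟩ := h
    obtain ⟨S, hSn, hSs, hna, hC, ⟨e⟩⟩ := exists_socle
      (Cfsg.Agent.H876.spToGL m F) H262.El.spToGL_injective _ (QuotientGroup.mk'_surjective _) hker_sp hP
    obtain ⟨g, hg⟩ := named_of_simple tab hK hna
    refine res_kill (p := p) hT trivial ?_ ?_ S hC hg e ?_ (fun h => Or.inl h) ?_ ?_
    · simp only [surv, List.mem_cons, Grp.psp.injEq, reduceCtorEq, or_false, false_or, List.not_mem_nil, not_or]
      exact ⟨by omega, by omega, by omega, by omega⟩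
    · intro g' hg'
      simp only [exc, List.mem_cons, Prod.mk.injEq, reduceCtorEq, and_false, or_false, List.not_mem_nil] at hg'
    · rw [Fintype.card_sum, Fintype.card_fin]
      exact (two_mul m).symm
    · intro hch
      by_cases hfull : Full (PSp m F) K
      · have hT' : IsNamed (.psp m (p ^ f)) (PSp m F) := by rw [← hF]; exact hT
        obtain ⟨h1, h2⟩ := full_psp hT' hp hf hm (fun h => hf1 ⟨h.1, by
          obtain ⟨-, h⟩ := h
          have := Nat.mul_le_mul_left f (show 6 ≤ 2 * m by omega)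
          omega⟩) (fun h => hf1 ⟨h.1, by
          obtain ⟨-, h⟩ := h
          have := Nat.mul_le_mul_left f (show 4 ≤ 2 * (m - 1) by omega)
          omega⟩) hne hfull S hna hC hg hch
        subst h2
        refine Or.inr (Or.inr ⟨h1, S, hSn, hSs, hna, hC, by rw [hF]; exact hg, P, hP, hnQ, ⟨e⟩⟩)
      · exact Or.inl (pgap_of_not_full hfull)
    · intro s hs hsp hch
      rcases cross_gen hp hT trivial (hasChar_card hp hpF) (by
        rw [Fintype.card_sum, Fintype.card_fin]; exact (two_mul m).symm) hpF S hSn hSs hna hC hP ⟨e⟩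
        hs hsp hg hch with h | h
      · exact Or.inl h
      · simp only [excP, List.mem_cons, Prod.mk.injEq, Grp.psp.injEq, reduceCtorEq, and_false, or_false,
          false_or, List.not_mem_nil] at h
        omega
  · exact Or.inr (Or.inl h)
  · exact absurd h.1 (by omega)

/-- **`Ω_{2m+1}(q)`, residual class** -/
theorem oodd_res (tab : OrderTable.{0}) (hK : Kn) (hm : 3 ≤ m) (hodd : Odd (Fintype.card F))
    {R : Subgroup (POmega F (quadFormOdd m F))} (hR : R ≠ ⊤)
    (h : InOrthogonalResidualClass (pre (quadFormOdd m F) R)) :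
    PGap (POmega F (quadFormOdd m F)) R ∨ (m % 2 = 0 ∧
      SocN R (Unit ⊕ (Fin m ⊕ Fin m)) F (pre (quadFormOdd m F) R) (.ominus m (Fintype.card F))) := by
  by_cases h33 : m = 3 ∧ Fintype.card F = 3
  · obtain ⟨rfl, h3⟩ := h33
    exact Or.inl (H503.El.pgap_o73 tab hK F h3 R hR)
  obtain ⟨p, f, hp, hf, hF, hpF⟩ := exists_pf F
  have hT : IsNamed (.oodd m (Fintype.card F)) (POmega F (quadFormOdd m F)) := named_oodd (F := F) hm hodd
  have hfin : Finite (POmega F (quadFormOdd m F)) := Quotient.finite _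
  have hι : Fintype.card (Unit ⊕ (Fin m ⊕ Fin m)) = 2 * m + 1 := by
    rw [Fintype.card_sum, Fintype.card_sum, Fintype.card_fin, Fintype.card_unit]
    omega
  obtain ⟨P, hP, -⟩ := h
  obtain ⟨S, hSn, hSs, hna, hC, ⟨e⟩⟩ := exists_res_odd hm hodd (M := R) hP
  obtain ⟨g, hg⟩ := named_of_simple tab hK hna
  refine res_kill (p := p) hT trivial ?_ ?_ S hC hg e hι (fun h => Or.inl h) ?_ ?_
  · simp only [surv, List.mem_cons, reduceCtorEq, or_false, List.not_mem_nil, not_false_eq_true]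
  · intro g' hg'
    simp only [exc, List.mem_cons, Prod.mk.injEq, reduceCtorEq, and_false, or_false, List.not_mem_nil] at hg'
  · intro hch
    by_cases hfull : Full (POmega F (quadFormOdd m F)) R
    · have hT' : IsNamed (.oodd m (p ^ f)) (POmega F (quadFormOdd m F)) := by rw [← hF]; exact hT
      obtain ⟨h1, h2⟩ := full_oodd hT' hp hf hm hR hfull S hna hC hg hch
      subst h2
      exact Or.inr ⟨h1, S, hSn, hSs, hna, hC, by rw [hF]; exact hg, P, hP, ⟨e⟩⟩
    · exact Or.inl (pgap_of_not_full hfull)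
  · intro s hs hsp hch
    rcases cross_gen hp hT trivial (hasChar_card hp hpF) hι hpF S hSn hSs hna hC hP ⟨e⟩
      hs hsp hg hch with h | h
    · exact Or.inl h
    · simp only [excP, List.mem_cons, Prod.mk.injEq, Grp.oodd.injEq, reduceCtorEq, and_false, or_false,
        false_or, List.not_mem_nil] at h
      exact absurd h.2 h33

/-- **`PΩ⁺_{2m}(q)`, `m ≥ 5`, residual class** -/
theorem oplus_res (tab : OrderTable.{0}) (hK : Kn) (hm : 5 ≤ m)
    {R : Subgroup (POmega F (quadFormPlus m F))} (hR : R ≠ ⊤)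
    (h : InOrthogonalResidualClass (pre (quadFormPlus m F) R)) :
    PGap (POmega F (quadFormPlus m F)) R ∨ (m % 2 = 0 ∧ ∃ g, (g = .psp (m - 1) (Fintype.card F) ∨
      g = .oodd (m - 1) (Fintype.card F)) ∧ SocN R (Fin m ⊕ Fin m) F (pre (quadFormPlus m F) R) g) := by
  by_cases h52 : m = 5 ∧ Fintype.card F = 2
  · obtain ⟨rfl, h2⟩ := h52
    exact Or.inl (H503.El.pgap_o10p tab hK F h2 R hR)
  obtain ⟨p, f, hp, hf, hF, hpF⟩ := exists_pf F
  have hT : IsNamed (.oplus m (Fintype.card F)) (POmega F (quadFormPlus m F)) := named_oplus (F := F) (by omega)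
  have hfin : Finite (POmega F (quadFormPlus m F)) := Quotient.finite _
  have hι : Fintype.card (Fin m ⊕ Fin m) = 2 * m := by
    rw [Fintype.card_sum, Fintype.card_fin]; exact (two_mul m).symm
  obtain ⟨P, hP, -⟩ := h
  obtain ⟨S, hSn, hSs, hna, hC, ⟨e⟩⟩ := exists_res_plus (by omega) (M := R) hP
  obtain ⟨g, hg⟩ := named_of_simple tab hK hna
  refine res_kill (p := p) hT trivial ?_ ?_ S hC hg e hι (fun h => Or.inl h) ?_ ?_
  · simp only [surv, List.mem_cons, Grp.oplus.injEq, reduceCtorEq, or_false, false_or, List.not_mem_nil]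
    omega
  · intro g' hg'
    simp only [exc, List.mem_cons, Prod.mk.injEq, Grp.oplus.injEq, reduceCtorEq, and_false, or_false, false_or,
      List.not_mem_nil] at hg'
    omega
  · intro hch
    by_cases hfull : Full (POmega F (quadFormPlus m F)) R
    · have hT' : IsNamed (.oplus m (p ^ f)) (POmega F (quadFormPlus m F)) := by rw [← hF]; exact hT
      have h8 : 8 * f ≤ 2 * (m - 1) * f := Nat.mul_le_mul_right f (by omega)
      have h6 : 6 * f ≤ 2 * (m - 2) * f := Nat.mul_le_mul_right f (by omega)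
      obtain ⟨h1, h2⟩ := full_oplus' hT' hp hf (by omega) (fun h => by
          obtain ⟨-, h⟩ := h
          rw [mul_comm] at h
          omega) (fun h => by
          obtain ⟨rfl, h⟩ := h
          have hf1 : f = 1 := by
            rw [mul_comm] at h
            omega
          subst hf1
          exact h52 ⟨by omega, by rw [hF, pow_one]⟩) hR hfull S hna hC hg hch
      refine Or.inr ⟨h1, g, by rw [hF]; exact h2, S, hSn, hSs, hna, hC, hg, P, hP, ⟨e⟩⟩
    · exact Or.inl (pgap_of_not_full hfull)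
  · intro s hs hsp hch
    rcases cross_gen hp hT trivial (hasChar_card hp hpF) hι hpF S hSn hSs hna hC hP ⟨e⟩
      hs hsp hg hch with h | h
    · exact Or.inl h
    · simp only [excP, List.mem_cons, Prod.mk.injEq, Grp.oplus.injEq, reduceCtorEq, and_false, or_false,
        false_or, List.not_mem_nil] at h
      omega

/-- **`PΩ⁻_{2m}(q)`, `m ≥ 4`** -/
theorem ominus_main (tab : OrderTable.{0}) (hK : Kn) (hm : 4 ≤ m) {a b : F}
    (hab : ∀ z₁ z₂ : F, z₁ ^ 2 + a * z₁ * z₂ + b * z₂ ^ 2 = 0 → z₁ = 0 ∧ z₂ = 0)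
    {R : Subgroup (POmega F (quadFormMinus (m - 1) F a b))} (hR : R ≠ ⊤) :
    PGap (POmega F (quadFormMinus (m - 1) F a b)) R := by
  by_cases h42 : m = 4 ∧ Fintype.card F = 2
  · obtain ⟨rfl, h2⟩ := h42
    exact H503.El.pgap_o8m tab hK F h2 a b hab R hR
  obtain ⟨p, f, hp, hf, hF, hpF⟩ := exists_pf F
  refine Cfsg.Agent.H278.El.Asm.ominus_row tab hK hp hpF hm hab (fun h => h42 ⟨h.2, h.1⟩) ?_ hR
  intro R hR S hSn hSs hna hC H P hP e s g hsp hne hS hch
  have hfin : Finite (POmega F (quadFormMinus (m - 1) F a b)) := Quotient.finite _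
  have hT : IsNamed (.ominus m (Fintype.card F)) (POmega F (quadFormMinus (m - 1) F a b)) :=
    named_ominus (F := F) hm hab
  have hι : Fintype.card ((Fin (m - 1) ⊕ Fin (m - 1)) ⊕ Fin 2) = 2 * m := by
    rw [Fintype.card_sum, Fintype.card_sum, Fintype.card_fin, Fintype.card_fin]
    omega
  rcases cross_gen hp hT trivial (hasChar_card hp hpF) hι hpF S hSn hSs hna hC hP e
    hsp hne hS hch with h | h
  · exact h
  · simp only [excP, List.mem_cons, Prod.mk.injEq, reduceCtorEq, and_false, or_false, List.not_mem_nil] at h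

end

end Cfsg.Agent.H997.PF
end
end

-- part: H997/PF/RowsTop
section
set_option linter.all false
open scoped Cfsg.Agent.FastGrp

/-!
# Rows `PSp_{2m}(q)`, `Ω_{2m+1}(q)`, `PΩ⁺_{2m}(q)`, `m = 2k ≥ 6`, and `m` odd; `PΩ⁻` (helper997, for S3522)
-/

set_option autoImplicit false
set_option linter.style.haveILetI false

namespace Cfsg.Agent.H997.PF

open Cfsg Cfsg.Geo Cfsg.Agent.OrdDiv Cfsg.Agent.H436 Cfsg.Agent.H264.FKS Cfsg.Agent.H264.GN Cfsg.Agent.H915.GN
  Cfsg.Agent.H938.Sax Cfsg.Agent.H884.El Cfsg.Agent.H278.El.Asm Cfsg.Agent.LieClassical.OmegaReindex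
  Cfsg.Agent.LieClassical Cfsg.Agent.H955
open Cfsg.Agent.H901.SaxSp (InOMinus)
open scoped MatrixGroups

/-! ### numbers -/

theorem coprime_of_pp {q k r : ℕ} (hk : 3 ≤ k) (hr : PP q (2 * (k - 1)) r) : r.Coprime (2 * (k + 1)) := by
  rw [hr.prime.coprime_iff_not_dvd]
  intro h
  have h1 := hr.lt (by omega)
  rcases hr.prime.dvd_mul.1 h with h2 | h2
  · have := Nat.le_of_dvd (by norm_num) h2
    omega
  · have := Nat.le_of_dvd (by omega) h2
    omega

/-- the numbers `r`, `s` -/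
theorem exists_rs {p f k : ℕ} (hp : p.Prime) (hf : 1 ≤ f) (hk : 3 ≤ k) (h24 : ¬ (p ^ f = 2 ∧ k = 4)) :
    ∃ r s, NumP p f k (r * s) ∧ PP (p ^ f) (2 * (k - 1)) r ∧ PP (p ^ f) (2 * (k + 1)) s ∧
      ∀ d, d ∣ 8 * f → ¬ r ∣ d ∧ ¬ s ∣ d := by
  obtain ⟨N, hN⟩ := exists_numP (k := k) hp hf hk
  rcases hN.1 with ⟨h1, h2, -⟩ | ⟨r, s, rfl, hr, hs⟩
  · exact absurd ⟨h1, h2⟩ h24
  · refine ⟨r, s, hN, hr, hs, fun d hd => ⟨fun h => ?_, fun h => ?_⟩⟩
    · have h1 : r ∣ Nat.gcd (r * s) (8 * f) := Nat.dvd_gcd (Dvd.intro _ rfl) (h.trans hd)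
      rw [hN.2] at h1
      exact hr.prime.one_lt.ne' (Nat.dvd_one.1 h1)
    · have h1 : s ∣ Nat.gcd (r * s) (8 * f) := Nat.dvd_gcd (Dvd.intro_left _ rfl) (h.trans hd)
      rw [hN.2] at h1
      exact hs.prime.one_lt.ne' (Nat.dvd_one.1 h1)

/-! ### local data -/

section ld

variable {F : Type} [Field F] [Fintype F] {k d r s : ℕ}

theorem ld_psp (hk : 3 ≤ k) (hr : PP (Nat.card F) (2 * (k - 1)) r) (hs : PP (Nat.card F) (2 * (k + 1)) s)
    (hrd : ¬ r ∣ d) (hsd : ¬ s ∣ d) (hex : ∃ x : PSp (2 * k) F, orderOf x = r * s) : LD (PSp (2 * k) F) d r s := by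
  have hr2 : r ≠ 2 := by have := hr.lt (by omega); omega
  refine ld_of_cover (F := F) (e := 2 * (k + 1)) hs (by omega) (ι := Fin (2 * k) ⊕ Fin (2 * k))
    (by rw [Fintype.card_sum, Fintype.card_fin]; omega)
    (MonoidHom.toHomUnits (Matrix.symplecticGroup (Fin (2 * k)) F).subtype)
    (fun a b hab => Subtype.ext (congrArg Units.val hab))
    (QuotientGroup.mk' (Subgroup.center (Matrix.symplecticGroup (Fin (2 * k)) F)))
    (QuotientGroup.mk'_surjective _) (fun z hz => ?_) hr.prime hr2 (coprime_of_pp hk hr)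
    (hr.ne_of_ne hs (by omega)) hrd hsd hex
  have h3 : z ∈ Subgroup.center (Matrix.symplecticGroup (Fin (2 * k)) F) := (QuotientGroup.eq_one_iff z).1 hz
  refine ⟨h3, Subtype.ext ?_⟩
  rcases Cfsg.Agent.ClassicalGeometry.SympInvolutions.center_eq h3 with h | h
  · rw [SubmonoidClass.coe_pow, h, one_pow]; rfl
  · rw [SubmonoidClass.coe_pow, h, neg_one_sq]; rfl

theorem ld_omega {ι : Type} [Fintype ι] [DecidableEq ι] {Q : QuadraticForm F (ι → F)} (hD : H390.Lift.Data Q)
    (hk : 3 ≤ k) (hι : Fintype.card ι ≤ 4 * k + 1)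
    (hr : PP (Nat.card F) (2 * (k - 1)) r) (hs : PP (Nat.card F) (2 * (k + 1)) s)
    (hrd : ¬ r ∣ d) (hsd : ¬ s ∣ d) (hex : ∃ x : POmega F (⇑Q), orderOf x = r * s) : LD (POmega F (⇑Q)) d r s := by
  have hr2 : r ≠ 2 := by have := hr.lt (by omega); omega
  refine ld_of_cover (F := F) (e := 2 * (k + 1)) hs (by omega) (ι := ι) (by omega)
    ((isometryGroup F (⇑Q)).subtype.comp (Omega F (⇑Q)).subtype)
    ((Subgroup.subtype_injective _).comp (Subgroup.subtype_injective _))
    (QuotientGroup.mk' (Subgroup.center (Omega F (⇑Q))))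
    (QuotientGroup.mk'_surjective _) (fun z hz => ?_) hr.prime hr2 (coprime_of_pp hk hr)
    (hr.ne_of_ne hs (by omega)) hrd hsd hex
  have h3 : z ∈ Subgroup.center (Omega F (⇑Q)) := (QuotientGroup.eq_one_iff z).1 hz
  exact ⟨h3, H390.Lift.center_sq hD z h3⟩

end ld

/-! ### rows -/

section rows

variable {F : Type} [Field F] [Fintype F]

theorem no_of_blk {T : Type} [Group T] [Finite T] {R : Subgroup T} {f N : ℕ} (S : Subgroup R) [S.Normal]
    (hC : Subgroup.centralizer (S : Set R) = ⊥) (hN : N.Coprime (8 * f)) (h : Blk S f N) :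
    ∀ x ∈ R, orderOf x ≠ N := by
  obtain ⟨c, h1, h2, h3⟩ := h
  exact no_of_socle S hC h2 (hN.coprime_dvd_right h1) h3

/-- **`PSp_{4k}(q)`, `k ≥ 3`, `q > 2`.** -/
theorem row_psp_even (tab : OrderTable.{0}) (hK : Kn) {k : ℕ} (hk : 3 ≤ k) (hq : Fintype.card F ≠ 2)
    [IsSimpleGroup (PSp (2 * k) F)] (hna : ¬ IsMulCommutative (PSp (2 * k) F)) : Row (PSp (2 * k) F) := by
  obtain ⟨p, f, hp, hf, hF, hpF⟩ := exists_pf F
  have := Fact.mk hp
  have hfin : Finite (PSp (2 * k) F) := Quotient.finite _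
  have hc : Nat.card F = p ^ f := by rw [Nat.card_eq_fintype_card, hF]
  obtain ⟨r, s, hN, hr, hs, hd8⟩ := exists_rs (k := k) hp hf hk (fun h => hq (by rw [hF, h.1]))
  have hout : Nat.card (Cfsg.Out (PSp (2 * k) F)) ∣ 8 * f := by
    have h1 := Cfsg.Agent.S0814.result (F := F) p f hf hF (2 * k) (by omega) (fun h => by omega)
    rw [if_neg (fun h => by omega), one_mul] at h1
    rw [Cfsg.Agent.H934.OutB.card_out_of_aut hna h1]
    exact Nat.mul_dvd_mul_right ((Nat.gcd_dvd_left _ _).trans (by decide)) f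
  have hT : IsNamed (.psp (2 * k) (p ^ f)) (PSp (2 * k) F) := by
    rw [← hF]; exact named_psp (F := F) (n := 2 * k) (by omega) (by omega)
  refine .kill fun d hd hne K hKt => ?_
  obtain ⟨hrd, hsd⟩ := hd8 d (hd.trans hout)
  have hl : LD (PSp (2 * k) F) d r s := ld_psp hk (by rw [hc]; exact hr) (by rw [hc]; exact hs) hrd hsd
    (exists_psp hp hf hk hN hT)
  rcases psp_main tab hK (m := 2 * k) (by omega) hq hKt with h | ⟨-, -, Q, hpol, hP, hH⟩ | ⟨-, h⟩
  · exact .pgap h
  · exact .loc hl (ominus_sp_gap (k := k) hk rfl (by rw [hc]; exact hN.1) hpol hP hH)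
  · obtain ⟨S, hSn, hSs, hna', hC, hS, -⟩ := h
    rw [hF] at hS
    exact .loc hl (no_of_blk S hC hN.2 (blk_ominus hp hf hk hN hS))

/-- **`PSp_{2m}(q)`, `m ≥ 3` odd, `q > 2`.** -/
theorem row_psp_odd (tab : OrderTable.{0}) (hK : Kn) {m : ℕ} (hm : 3 ≤ m) (ho : m % 2 = 1) (hq : Fintype.card F ≠ 2) :
    Row (PSp m F) := by
  refine .pgap fun K hKt => ?_
  rcases psp_main tab hK hm hq hKt with h | ⟨h, -⟩ | ⟨h, -⟩
  · exact h
  · obtain ⟨k, hk⟩ := h
    omega
  · omega

/-- **`PSp_{2m}(2)`.** -/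
theorem row_psp_two {m : ℕ} (hm : 3 ≤ m) (hq : Fintype.card F = 2) [IsSimpleGroup (PSp m F)]
    (hna : ¬ IsMulCommutative (PSp m F)) : Row (PSp m F) := by
  have := Fact.mk Nat.prime_two
  have hfin : Finite (PSp m F) := Quotient.finite _
  have h1 := Cfsg.Agent.S0814.result (F := F) 2 1 le_rfl (by rw [hq]; rfl) m (by omega) (fun h => by omega)
  rw [if_neg (fun h => by omega)] at h1
  refine .out ?_
  rw [Cfsg.Agent.H934.OutB.card_out_of_aut hna h1]
  decide

/-- **`PΩ⁻_{2m}(q)`.** -/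
theorem row_ominus (tab : OrderTable.{0}) (hK : Kn) {m : ℕ} (hm : 4 ≤ m) {a b : F}
    (hab : ∀ z₁ z₂ : F, z₁ ^ 2 + a * z₁ * z₂ + b * z₂ ^ 2 = 0 → z₁ = 0 ∧ z₂ = 0) :
    Row (POmega F (quadFormMinus (m - 1) F a b)) :=
  .pgap fun _ h => ominus_main tab hK hm hab h

/-- the geometric part of the odd row -/
theorem oodd_geo (hodd : Odd (Fintype.card F)) {m : ℕ} (hm : 3 ≤ m) (K : Subgroup (POmega F (quadFormOdd m F))) :
    PGap (POmega F (quadFormOdd m F)) K ∨ InOrthogonalResidualClass (pre (quadFormOdd m F) K) ∨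
      (Even m ∧ ∃ v, quadFormOdd m F v ≠ 0 ∧ pre (quadFormOdd m F) K ≤ subspaceStabilizer (Submodule.span F {v})) :=
  geo_odd_miss hm hodd K

/-- **`Ω_{2m+1}(q)`, `m ≥ 3` odd.** -/
theorem row_oodd_odd (tab : OrderTable.{0}) (hK : Kn) (hodd : Odd (Fintype.card F)) {m : ℕ} (hm : 3 ≤ m)
    (ho : m % 2 = 1) : Row (POmega F (quadFormOdd m F)) := by
  refine .pgap fun K hKt => ?_
  rcases oodd_geo hodd hm K with h | h | ⟨h, -⟩
  · exact h
  · rcases oodd_res tab hK hm hodd hKt h with h | ⟨h, -⟩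
    · exact h
    · omega
  · obtain ⟨k, hk⟩ := h
    omega

/-- **`Ω_{4k+1}(q)`, `k ≥ 3`.** -/
theorem row_oodd_even (tab : OrderTable.{0}) (hK : Kn) (hodd : Odd (Fintype.card F)) {k : ℕ} (hk : 3 ≤ k)
    [IsSimpleGroup (POmega F (quadFormOdd (2 * k) F))] (hna : ¬ IsMulCommutative (POmega F (quadFormOdd (2 * k) F))) :
    Row (POmega F (quadFormOdd (2 * k) F)) := by
  obtain ⟨p, f, hp, hf, hF, hpF⟩ := exists_pf F
  have := Fact.mk hp
  have h2 : (2 : F) ≠ 0 := H390.two_ne_zero_of_odd hodd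
  have hfin : Finite (POmega F (quadFormOdd (2 * k) F)) := Quotient.finite _
  have hc : Nat.card F = p ^ f := by rw [Nat.card_eq_fintype_card, hF]
  have hoddp : Odd p := by
    rw [hF] at hodd
    exact (Nat.odd_pow_iff (by omega)).1 hodd
  obtain ⟨r, s, hN, hr, hs, hd8⟩ := exists_rs (k := k) hp hf hk (fun h => by
    rw [hF, h.1] at hodd
    exact absurd hodd (by decide))
  have hout : Nat.card (Cfsg.Out (POmega F (quadFormOdd (2 * k) F))) ∣ 8 * f := by
    have h1 := Cfsg.Agent.S0816.result (F := F) p f hf hF hoddp (2 * k) (by omega)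
    rw [Cfsg.Agent.H934.OutB.card_out_of_aut hna h1]
    exact Nat.mul_dvd_mul_right (by decide) f
  have hT : IsNamed (.oodd (2 * k) (p ^ f)) (POmega F (quadFormOdd (2 * k) F)) := by
    rw [← hF]; exact named_oodd (F := F) (by omega) hodd
  have hex := exists_oodd hk hN hT
  -- the geometric part
  have hgeo : ∀ K : Subgroup (POmega F (⇑(quadOdd (2 * k) F))), PGap (POmega F (⇑(quadOdd (2 * k) F))) K ∨
      InOrthogonalResidualClass (pre (⇑(quadOdd (2 * k) F)) K) ∨ ∀ x ∈ K, orderOf x ≠ r * s := by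
    intro K
    rcases odd_miss h2 (by omega) (card_odd (2 * k)) (nondeg_iff.2 (quadOdd_nondegenerate h2)) (data_odd (by omega) h2) K
      with h | h | ⟨-, v, hv, hMv, hP⟩
    · exact Or.inl h
    · exact Or.inr (Or.inl h)
    · refine Or.inr (Or.inr fun x hx => ?_)
      exact odd_point_gap h2 (nondeg_iff.2 (quadOdd_nondegenerate h2)) (data_odd (by omega) h2) hk
        (by rw [hc]; exact hN.1) (by rw [card_odd]; omega) hv hMv hP x hx
  have hld : ∀ d, ¬ r ∣ d → ¬ s ∣ d → (∃ x : POmega F (⇑(quadOdd (2 * k) F)), orderOf x = r * s) →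
      LD (POmega F (⇑(quadOdd (2 * k) F))) d r s := fun d hrd hsd hex =>
    ld_omega (data_odd (by omega) h2) hk (by rw [card_odd]; omega) (by rw [hc]; exact hr) (by rw [hc]; exact hs)
      hrd hsd hex
  rw [coe_quadOdd] at hgeo hld
  refine .kill fun d hd hne K hKt => ?_
  obtain ⟨hrd, hsd⟩ := hd8 d (hd.trans hout)
  have hl := hld d hrd hsd hex
  rcases hgeo K with h | h | h
  · exact .pgap h
  · rcases oodd_res tab hK (by omega) hodd hKt h with h | ⟨-, S, hSn, hSs, hna', hC, hS, -⟩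
    · exact .pgap h
    · rw [hF] at hS
      exact .loc hl (no_of_blk S hC hN.2 (blk_ominus hp hf hk hN hS))
  · exact .loc hl h

/-- **`PΩ⁺_{2m}(q)`, `m ≥ 5` odd.** -/
theorem row_oplus_odd (tab : OrderTable.{0}) (hK : Kn) {m : ℕ} (hm : 5 ≤ m) (ho : m % 2 = 1) :
    Row (POmega F (quadFormPlus m F)) := by
  refine .pgap fun K hKt => ?_
  rcases geo_plus_miss (F := F) (by omega : 4 ≤ m) (fun h => by omega) K with h | h | ⟨h, -⟩
  · exact h
  · rcases oplus_res tab hK hm hKt h with h | ⟨h, -⟩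
    · exact h
    · omega
  · obtain ⟨k, hk⟩ := h
    omega

/-- **`PΩ⁺_{4k}(q)`, `k ≥ 3`, not `PΩ⁺_16(2)`.** -/
theorem row_oplus_even (tab : OrderTable.{0}) (hK : Kn) {k : ℕ} (hk : 3 ≤ k)
    (h24 : ¬ (Fintype.card F = 2 ∧ k = 4)) [IsSimpleGroup (POmega F (quadFormPlus (2 * k) F))]
    (hna : ¬ IsMulCommutative (POmega F (quadFormPlus (2 * k) F))) :
    Row (POmega F (quadFormPlus (2 * k) F)) := by
  obtain ⟨p, f, hp, hf, hF, hpF⟩ := exists_pf F
  have := Fact.mk hp
  have hfin : Finite (POmega F (quadFormPlus (2 * k) F)) := Quotient.finite _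
  have hc : Nat.card F = p ^ f := by rw [Nat.card_eq_fintype_card, hF]
  obtain ⟨r, s, hN, hr, hs, hd8⟩ := exists_rs (k := k) hp hf hk (fun h => h24 ⟨by rw [hF, h.1], h.2⟩)
  have hout : Nat.card (Cfsg.Out (POmega F (quadFormPlus (2 * k) F))) ∣ 8 * f := by
    have h1 := Cfsg.Agent.S0817.result (F := F) p f hf hF (2 * k) (by omega)
    rw [if_neg (by omega : ¬ 2 * k = 4), one_mul] at h1
    rw [Cfsg.Agent.H934.OutB.card_out_of_aut hna h1]
    refine Nat.mul_dvd_mul_right ?_ f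
    split_ifs <;> decide
  have hT : IsNamed (.oplus (2 * k) (p ^ f)) (POmega F (quadFormPlus (2 * k) F)) := by
    rw [← hF]; exact named_oplus (F := F) (by omega)
  have hex := exists_oplus hk hN hT
  have hgeo : ∀ K : Subgroup (POmega F (⇑(quadPlus (2 * k) F))), PGap (POmega F (⇑(quadPlus (2 * k) F))) K ∨
      InOrthogonalResidualClass (pre (⇑(quadPlus (2 * k) F)) K) ∨ ∀ x ∈ K, orderOf x ≠ r * s := by
    intro K
    rcases plus_miss (m := 2 * k) (by omega) (card_plus (2 * k)) (nondeg_iff.2 quadPlus_nondegenerate)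
      (isPlus_quadPlus (2 * k)) (fun h => by omega) (data_plus (by omega)) K with h | h | ⟨-, v, hv, hMv⟩
    · exact Or.inl h
    · exact Or.inr (Or.inl h)
    · refine Or.inr (Or.inr fun x hx => ?_)
      exact plus_point_gap (nondeg_iff.2 quadPlus_nondegenerate) (data_plus (by omega)) hk (by rw [hc]; exact hN.1)
        (by rw [card_plus]; omega) hv hMv x hx
  have hld : ∀ d, ¬ r ∣ d → ¬ s ∣ d → (∃ x : POmega F (⇑(quadPlus (2 * k) F)), orderOf x = r * s) →
      LD (POmega F (⇑(quadPlus (2 * k) F))) d r s := fun d hrd hsd hex =>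
    ld_omega (data_plus (by omega)) hk (by rw [card_plus]; omega) (by rw [hc]; exact hr) (by rw [hc]; exact hs)
      hrd hsd hex
  rw [coe_quadPlus] at hgeo hld
  refine .kill fun d hd hne K hKt => ?_
  obtain ⟨hrd, hsd⟩ := hd8 d (hd.trans hout)
  have hl := hld d hrd hsd hex
  rcases hgeo K with h | h | h
  · exact .pgap h
  · rcases oplus_res tab hK (by omega) hKt h with h | ⟨-, g, hg, S, hSn, hSs, hna', hC, hS, -⟩
    · exact .pgap h
    · rw [hF] at hg
      rcases hg with rfl | rfl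
      · exact .loc hl (no_of_blk S hC hN.2 (blk_psp hp hf hk hN hS))
      · exact .loc hl (no_of_blk S hC hN.2 (blk_oodd hp hf hk hN hS))
  · exact .loc hl h

end rows

end Cfsg.Agent.H997.PF
end
end
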