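import Cfsg.Agent.H938.Sax.Base
import Cfsg.Agent.H364.Reduce
import Cfsg.Agent.OddOrderLocal.CyclicSub
import Cfsg.Agent.FastGrp
import Cfsg.Agent.Prune
set_option linter.all false
prune_inst 0x7f00000000000000000000000000000000000000000000000000000000000000000000000000000000000000000000000000000000000000000000000000000000000000000000000000000000000000003fffffffffffffffffffffffffffbeffbdffffffff
open scoped Cfsg.Agent.FastGrp

-- part: H997/PF/Base
section
/-!
# Primitive factorizations `G = A * φ(A)`, `A` maximal (helper997, for S3522)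

`Fac T A φ` : `T` is a normal non-abelian simple subgroup of the finite group `G` with trivial centralizer, `A` is a
maximal subgroup not containing `T`, and `G = A * φ(A)`.
-/

set_option autoImplicit false

namespace Cfsg.Agent.H997.PF

open Subgroup Cfsg.Agent.H938.Sax

universe u

variable {G : Type u} [Group G]

/-- `G = A * φ(A)`, `G` almost simple with socle `T`, `A` maximal and core-free -/
structure Fac (T A : Subgroup G) (φ : G ≃* G) : Prop where
  fin : Finite G
  normal : T.Normal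
  simple : IsSimpleGroup T
  nc : ¬ IsMulCommutative T
  cent : Subgroup.centralizer (T : Set G) = ⊥
  coatom : IsCoatom A
  core : ¬ T ≤ A
  fac : ∀ g : G, ∃ a ∈ A, ∃ b ∈ A, g = a * φ b

namespace Fac

variable {T A : Subgroup G} {φ : G ≃* G}

theorem sup (h : Fac T A φ) : T ⊔ A = ⊤ := by
  rcases h.coatom.le_iff.1 (le_sup_right : A ≤ T ⊔ A) with h1 | h1
  · exact h1
  · exact absurd (h1 ▸ le_sup_left : T ≤ A) h.core

/-- `φ(T) = T` -/
theorem map_T (h : Fac T A φ) : T.map φ.toMonoidHom = T := by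
  have := h.fin
  have hn := h.normal
  have hs := h.simple
  have hn2 : (T.map φ.toMonoidHom).Normal := hn.map _ φ.surjective
  have hi : (T ⊓ T.map φ.toMonoidHom).Normal := Subgroup.normal_inf_normal _ _
  have hsub : ((T ⊓ T.map φ.toMonoidHom).subgroupOf T).Normal := hi.subgroupOf T
  have hcard : Nat.card (T.map φ.toMonoidHom) = Nat.card T :=
    (Nat.card_congr (φ.subgroupMap T).toEquiv).symm
  rcases hsub.eq_bot_or_eq_top with h1 | h1
  · exfalso
    rw [Subgroup.subgroupOf_eq_bot, disjoint_iff] at h1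
    have h2 : T ⊓ T.map φ.toMonoidHom = ⊥ := by
      rw [eq_bot_iff]
      intro x hx
      have h3 : x ∈ (T ⊓ T.map φ.toMonoidHom) ⊓ T := ⟨hx, hx.1⟩
      rwa [h1] at h3
    have h4 : T.map φ.toMonoidHom ≤ Subgroup.centralizer (T : Set G) := by
      intro x hx
      rw [Subgroup.mem_centralizer_iff]
      intro t ht
      exact Subgroup.commute_of_normal_of_disjoint T (T.map φ.toMonoidHom) hn hn2
        (disjoint_iff.2 h2) t x ht hx
    rw [h.cent] at h4
    have h5 : T.map φ.toMonoidHom = ⊥ := le_bot_iff.1 h4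
    rw [Subgroup.map_eq_bot_iff_of_injective _ φ.injective] at h5
    exact (Subgroup.nontrivial_iff_ne_bot T).1 hs.toNontrivial h5
  · rw [Subgroup.subgroupOf_eq_top] at h1
    have h2 : T ≤ T.map φ.toMonoidHom := h1.trans inf_le_right
    exact (Subgroup.eq_of_le_of_card_ge h2 hcard.le).symm

/-- the inner case is impossible: `φ(A)` is not conjugate to `A` -/
theorem not_conj (h : Fac T A φ) (x : G) : A.map φ.toMonoidHom ≠ A.map (MulAut.conj x).toMonoidHom := by
  intro he
  have hf : ∀ g : G, ∃ a ∈ A, ∃ b ∈ A, g = a * (x * b * x⁻¹) := by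
    intro g
    obtain ⟨a, ha, b, hb, rfl⟩ := h.fac g
    have h1 : φ b ∈ A.map (MulAut.conj x).toMonoidHom := by
      rw [← he]; exact ⟨b, hb, rfl⟩
    obtain ⟨c, hc, hcb⟩ := h1
    refine ⟨a, ha, c, hc, ?_⟩
    have h2 : x * c * x⁻¹ = φ b := hcb
    rw [h2]
  have hx : x ∈ A := by
    obtain ⟨a, ha, b, hb, h1⟩ := hf x⁻¹
    have h2 : x = a⁻¹ * b⁻¹ := by
      have h3 : a * (x * b) = 1 := by
        calc a * (x * b) = a * (x * b * x⁻¹) * x := by group
          _ = x⁻¹ * x := by rw [← h1]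
          _ = 1 := by group
      have h4 : x = a⁻¹ * (a * (x * b)) * b⁻¹ := by group
      rw [h4, h3]; group
    rw [h2]
    exact A.mul_mem (A.inv_mem ha) (A.inv_mem hb)
  refine h.coatom.1 (eq_top_iff.2 fun g _ => ?_)
  obtain ⟨a, ha, b, hb, rfl⟩ := hf g
  exact A.mul_mem ha (A.mul_mem (A.mul_mem hx hb) (A.inv_mem hx))

/-- the index divides the order -/
theorem index_dvd (h : Fac T A φ) : A.index ∣ Nat.card A := by
  have := h.fin
  set B := A.map φ.toMonoidHom with hB
  have h0 : B.index = A.index := Subgroup.index_map_equiv A φ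
  have h1 : MulAction.orbit A (QuotientGroup.mk 1 : G ⧸ B) = Set.univ := by
    rw [Set.eq_univ_iff_forall]
    intro x
    obtain ⟨g, rfl⟩ := QuotientGroup.mk_surjective x
    obtain ⟨a, ha, b, hb, rfl⟩ := h.fac g
    refine ⟨⟨a, ha⟩, ?_⟩
    show (QuotientGroup.mk (a * 1) : G ⧸ B) = QuotientGroup.mk (a * φ b)
    rw [mul_one, QuotientGroup.eq]
    have : a⁻¹ * (a * φ b) = φ b := by group
    rw [this]
    exact ⟨b, hb, rfl⟩
  have h2 := MulAction.index_stabilizer A (QuotientGroup.mk 1 : G ⧸ B)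
  rw [h1, Set.ncard_univ] at h2
  have h3 : B.index = Nat.card (G ⧸ B) := rfl
  rw [← h0, h3, ← h2]
  exact Subgroup.index_dvd_card _

theorem _root_.Cfsg.Agent.H997.PF.card_subgroupOf (H K : Subgroup G) :
    Nat.card (H.subgroupOf K) = Nat.card (H ⊓ K : Subgroup G) := by
  rw [← Subgroup.subgroupOf_map_subtype]
  exact Nat.card_congr ((H.subgroupOf K).equivMapOfInjective K.subtype K.subtype_injective).toEquiv

theorem card_inf_mul (h : Fac T A φ) : Nat.card (A.subgroupOf T) * T.index = Nat.card A := by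
  have := h.fin
  have := h.normal
  have h1 : T.relIndex A = T.index := by
    rw [← Subgroup.relIndex_sup_right, sup_comm, h.sup, Subgroup.relIndex_top_right]
  have h2 : Nat.card (T.subgroupOf A) * T.relIndex A = Nat.card A := Subgroup.card_mul_index _
  rw [← h2, h1, card_subgroupOf, card_subgroupOf, inf_comm]

/-- the order equation `|T| ∣ |R|² |G : T|` -/
theorem card_dvd (h : Fac T A φ) :
    Nat.card T ∣ Nat.card (A.subgroupOf T) * Nat.card (A.subgroupOf T) * T.index := by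
  have := h.fin
  have h1 : Nat.card G ∣ Nat.card A * Nat.card A := by
    rw [← A.card_mul_index]
    exact Nat.mul_dvd_mul_left _ h.index_dvd
  rw [← h.card_inf_mul, ← T.card_mul_index] at h1
  have h2 : 0 < T.index := Nat.pos_of_ne_zero Subgroup.index_ne_zero_of_finite
  refine Nat.dvd_of_mul_dvd_mul_right h2 (h1.trans (dvd_of_eq ?_))
  ring

theorem index_dvd_out (h : Fac T A φ) : T.index ∣ Nat.card (Cfsg.Out T) := by
  have := h.fin
  have := h.normal
  have := h.simple
  exact Cfsg.Agent.H364.index_dvd_out T (fun hc => h.nc ⟨⟨hc⟩⟩) h.cent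

/-- the order equation `|T| ∣ |R|² |Out T|` -/
theorem card_dvd_out (h : Fac T A φ) :
    Nat.card T ∣ Nat.card (A.subgroupOf T) * Nat.card (A.subgroupOf T) * Nat.card (Cfsg.Out T) :=
  h.card_dvd.trans (Nat.mul_dvd_mul_left _ h.index_dvd_out)

/-- elimination by a `v`-part of the order equation -/
theorem kill (h : Fac T A φ) {v k l m : ℕ} (hT : v ^ k ∣ Nat.card T)
    (hv : v.Prime) (hR : ¬ v ^ (l + 1) ∣ Nat.card (A.subgroupOf T)) (hO : ¬ v ^ (m + 1) ∣ Nat.card (Cfsg.Out T))
    (hlt : 2 * l + m < k) : False := by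
  have := h.fin
  have h1 := hT.trans h.card_dvd_out
  have : Finite (MulAut T) := Finite.of_injective (fun f : MulAut T => (f : T → T)) DFunLike.coe_injective
  have hr0 : Nat.card (A.subgroupOf T) ≠ 0 := Nat.card_pos.ne'
  have ho0 : Nat.card (Cfsg.Out T) ≠ 0 := Nat.card_pos.ne'
  rw [hv.pow_dvd_iff_le_factorization (mul_ne_zero (mul_ne_zero hr0 hr0) ho0),
    Nat.factorization_mul (mul_ne_zero hr0 hr0) ho0, Nat.factorization_mul hr0 hr0] at h1
  rw [hv.pow_dvd_iff_le_factorization hr0] at hR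
  rw [hv.pow_dvd_iff_le_factorization ho0] at hO
  simp only [Finsupp.add_apply] at h1
  omega

theorem ne_top (h : Fac T A φ) : A.subgroupOf T ≠ ⊤ := by
  intro h1
  exact h.core (Subgroup.subgroupOf_eq_top.1 h1)

theorem ne_bot_of_not_pgap {S : Type*} [Group S] [Finite S] [Nontrivial S] {K : Subgroup S} (h : ¬ PGap S K) :
    K ≠ ⊥ := by
  rintro rfl
  have h1 : Nat.card S ≠ 1 := (Finite.one_lt_card (α := S)).ne'
  obtain ⟨p, hp, hd⟩ := Nat.exists_prime_and_dvd h1
  refine h ⟨p, hp, hd, ?_⟩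
  rw [Subgroup.card_bot]
  exact fun h2 => hp.one_lt.ne' (Nat.dvd_one.1 h2)

/-- if no full `v`-part of `|T|` divides `|Out T|` then `R` is full -/
theorem full (h : Fac T A φ)
    (hO : ∀ v : ℕ, v.Prime → v ∣ Nat.card T → ¬ v ^ (Nat.card T).factorization v ∣ Nat.card (Cfsg.Out T)) :
    ¬ PGap T (A.subgroupOf T) := by
  rintro ⟨v, hv, hvT, hvR⟩
  refine hO v hv hvT ?_
  have h1 := (Nat.ordProj_dvd (Nat.card T) v).trans h.card_dvd_out
  refine Nat.Coprime.dvd_of_dvd_mul_left ?_ h1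
  refine Nat.Coprime.pow_left _ ?_
  rw [Nat.coprime_mul_iff_right]
  have : Nat.Coprime v (Nat.card (A.subgroupOf T)) := (Nat.Prime.coprime_iff_not_dvd hv).2 hvR
  exact ⟨this, this⟩

/-- the automorphism of `T` induced by `φ` -/
noncomputable def restr (h : Fac T A φ) : MulAut T :=
  (φ.subgroupMap T).trans (MulEquiv.subgroupCongr h.map_T)

theorem map_restr (h : Fac T A φ) (K : Subgroup T) :
    (K.map h.restr.toMonoidHom).map T.subtype = (K.map T.subtype).map φ.toMonoidHom := by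
  ext x
  constructor
  · rintro ⟨_, ⟨y, hy, rfl⟩, rfl⟩
    exact ⟨y, ⟨y, hy, rfl⟩, rfl⟩
  · rintro ⟨_, ⟨y, hy, rfl⟩, rfl⟩
    exact ⟨_, ⟨y, hy, rfl⟩, rfl⟩

end Fac

/-! ### families of overgroups -/

section family

variable {S : Type*} [Group S]

theorem card_map (α : MulAut S) (K : Subgroup S) : Nat.card (K.map α.toMonoidHom) = Nat.card K :=
  (Nat.card_congr (α.subgroupMap K).toEquiv).symm

theorem map_mul_aut (α β : MulAut S) (K : Subgroup S) :
    K.map (α * β : MulAut S).toMonoidHom = (K.map β.toMonoidHom).map α.toMonoidHom := by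
  rw [Subgroup.map_map]
  rfl

theorem pgap_map {K : Subgroup S} (α : MulAut S) (h : PGap S (K.map α.toMonoidHom)) : PGap S K := by
  obtain ⟨r, hr, h1, h2⟩ := h
  exact ⟨r, hr, h1, by rwa [card_map] at h2⟩

theorem pgap_mono [Finite S] {K L : Subgroup S} (hKL : K ≤ L) (h : PGap S L) : PGap S K := by
  obtain ⟨r, hr, h1, h2⟩ := h
  exact ⟨r, hr, h1, fun h3 => h2 (h3.trans (Subgroup.card_dvd_of_le hKL))⟩

/-- a family of proper subgroups such that every full proper subgroup lies in exactly one member -/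
structure Fam (S : Type*) [Group S] (𝓜 : Set (Subgroup S)) : Prop where
  ne_top : ∀ M ∈ 𝓜, M ≠ ⊤
  exi : ∀ K : Subgroup S, K ≠ ⊤ → ¬ PGap S K → ∃ M ∈ 𝓜, K ≤ M
  uni : ∀ K : Subgroup S, ¬ PGap S K → ∀ M ∈ 𝓜, ∀ M' ∈ 𝓜, K ≤ M → K ≤ M' → M = M'

end family

namespace Fac

variable {T A : Subgroup G} {φ : G ≃* G}

theorem map_conjNormal [T.Normal] (g : G) (K : Subgroup T) :
    (K.map (MulAut.conjNormal g : MulAut T).toMonoidHom).map T.subtype =
      (K.map T.subtype).map (MulAut.conj g).toMonoidHom := by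
  ext x
  constructor
  · rintro ⟨_, ⟨y, hy, rfl⟩, rfl⟩
    exact ⟨y, ⟨y, hy, rfl⟩, rfl⟩
  · rintro ⟨_, ⟨y, hy, rfl⟩, rfl⟩
    exact ⟨_, ⟨y, hy, rfl⟩, rfl⟩

theorem mem_normalizer_iff_map {H : Subgroup G} {g : G} :
    g ∈ Subgroup.normalizer (H : Set G) ↔ H.map (MulAut.conj g).toMonoidHom = H :=
  Subgroup.mem_normalizer_iff_map_conj_eq

theorem map_normalizer (φ : G ≃* G) (H : Subgroup G) :
    (Subgroup.normalizer (H : Set G)).map φ.toMonoidHom =
      Subgroup.normalizer ((H.map φ.toMonoidHom : Subgroup G) : Set G) :=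
  Subgroup.map_equiv_normalizer_eq H φ

end Fac

end Cfsg.Agent.H997.PF
end

-- part: H997/PF/Loc
section
/-!
# The local test for primitive factorizations `G = A * φ(A)` (helper997, for S3522)

If the Sylow `s`-subgroups of `T` are cyclic, `s` divides `|A ∩ T|`, and `T` has an element of order `r * s`, where elements of order `r` normalising a subgroup of order `s` centralise it, then `A ∩ T` has an element of
order `r * s`.
-/

set_option autoImplicit false

namespace Cfsg.Agent.H997.PF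

open Subgroup Cfsg.Agent.H938.Sax

universe u

section abs

variable {G : Type*} [Group G]

/-- subgroups of prime order `s` are conjugate when the `s`-subgroups are cyclic -/
theorem conj_of_cyclic [Finite G] {K X Y : Subgroup G} {s : ℕ} [hs : Fact s.Prime]
    (hcyc : ∀ P : Subgroup G, P ≤ K → IsPGroup s P → IsCyclic P) (hX : X ≤ K) (hY : Y ≤ K)
    (cX : Nat.card X = s) (cY : Nat.card Y = s) : ∃ k ∈ K, Y = X.map (MulAut.conj k).toMonoidHom := by
  have pX : IsPGroup s (X.subgroupOf K) := by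
    apply IsPGroup.of_card (n := 1)
    rw [card_subgroupOf, inf_eq_left.2 hX, cX, pow_one]
  have pY : IsPGroup s (Y.subgroupOf K) := by
    apply IsPGroup.of_card (n := 1)
    rw [card_subgroupOf, inf_eq_left.2 hY, cY, pow_one]
  obtain ⟨P, hP⟩ := pX.exists_le_sylow
  obtain ⟨Q, hQ⟩ := pY.exists_le_sylow
  obtain ⟨k, hk⟩ := MulAction.exists_smul_eq K P Q
  have hQ' : (Q : Subgroup K) = (P : Subgroup K).map (MulAut.conj k).toMonoidHom := by
    rw [← hk]; rfl
  have h1 : ((Q : Subgroup K).map K.subtype) = ((P : Subgroup K).map K.subtype).map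
      (MulAut.conj (k : G)).toMonoidHom := by
    rw [hQ']
    ext x
    constructor
    · rintro ⟨_, ⟨y, hy, rfl⟩, rfl⟩
      exact ⟨y, ⟨y, hy, rfl⟩, rfl⟩
    · rintro ⟨_, ⟨y, hy, rfl⟩, rfl⟩
      exact ⟨_, ⟨y, hy, rfl⟩, rfl⟩
  have hc : IsCyclic ((Q : Subgroup K).map K.subtype) :=
    hcyc _ (Subgroup.map_subtype_le _) (Q.isPGroup'.map _)
  refine ⟨k, k.2, ?_⟩
  refine Cfsg.Agent.OddOrderLocal.CyclicSub.eq_of_card_eq_of_le_cyclic hc ?_ ?_ ?_
  · intro y hy
    exact ⟨⟨y, hY hy⟩, hQ hy, rfl⟩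
  · rw [h1]
    apply Subgroup.map_mono
    intro y hy
    exact ⟨⟨y, hX hy⟩, hP hy, rfl⟩
  · rw [cY, ← cX]
    exact Nat.card_congr (X.equivMapOfInjective (MulAut.conj (k : G)).toMonoidHom (MulAut.conj (k : G)).injective).toEquiv

/-- `N_G(X) = N_A(X) N_B(X)` -/
theorem normalizer_factor [Finite G] {A B X : Subgroup G} {s : ℕ} [hs : Fact s.Prime]
    (hAB : ∀ g : G, ∃ a ∈ A, ∃ b ∈ B, g = a * b)
    (hcyc : ∀ P : Subgroup G, P ≤ A ⊓ B → IsPGroup s P → IsCyclic P) (hX : X ≤ A ⊓ B) (cX : Nat.card X = s)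
    {g : G} (hg : g ∈ Subgroup.normalizer (X : Set G)) :
    ∃ a ∈ A ⊓ Subgroup.normalizer (X : Set G), ∃ b ∈ B ⊓ Subgroup.normalizer (X : Set G), g = a * b := by
  obtain ⟨a, ha, b, hb, rfl⟩ := hAB g
  rw [Fac.mem_normalizer_iff_map] at hg
  have key : X.map (MulAut.conj b).toMonoidHom = X.map (MulAut.conj a⁻¹).toMonoidHom := by
    have h1 : X.map (MulAut.conj (a * b)).toMonoidHom =
        (X.map (MulAut.conj b).toMonoidHom).map (MulAut.conj a).toMonoidHom := by
      rw [Subgroup.map_map, map_mul]; rfl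
    have hinv : (MulAut.conj a⁻¹).toMonoidHom.comp (MulAut.conj a).toMonoidHom = MonoidHom.id G := by
      ext z
      show a⁻¹ * (a * z * a⁻¹) * a⁻¹⁻¹ = z
      group
    calc X.map (MulAut.conj b).toMonoidHom
        = ((X.map (MulAut.conj b).toMonoidHom).map (MulAut.conj a).toMonoidHom).map
            (MulAut.conj a⁻¹).toMonoidHom := by
          rw [Subgroup.map_map _ (MulAut.conj a⁻¹).toMonoidHom, hinv, Subgroup.map_id]
      _ = X.map (MulAut.conj a⁻¹).toMonoidHom := by rw [← h1, hg]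
  have hY : X.map (MulAut.conj b).toMonoidHom ≤ A ⊓ B := by
    apply le_inf
    · rw [key]
      rintro _ ⟨x, hx, rfl⟩
      exact A.mul_mem (A.mul_mem (A.inv_mem ha) (hX hx).1) (A.inv_mem (A.inv_mem ha))
    · rintro _ ⟨x, hx, rfl⟩
      exact B.mul_mem (B.mul_mem hb (hX hx).2) (B.inv_mem hb)
  have cY : Nat.card (X.map (MulAut.conj b).toMonoidHom) = s := by
    rw [← cX]
    exact (Nat.card_congr (X.equivMapOfInjective (MulAut.conj b).toMonoidHom (MulAut.conj b).injective).toEquiv).symm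
  obtain ⟨c, hc, hc1⟩ := conj_of_cyclic hcyc hX hY cX cY
  have hcomp : ∀ x y : G, (X.map (MulAut.conj y).toMonoidHom).map (MulAut.conj x).toMonoidHom =
      X.map (MulAut.conj (x * y)).toMonoidHom := by
    intro x y
    rw [Subgroup.map_map, map_mul]; rfl
  have h2 : c⁻¹ * b ∈ Subgroup.normalizer (X : Set G) := by
    rw [Fac.mem_normalizer_iff_map, ← hcomp, hc1, hcomp, inv_mul_cancel, map_one]
    exact Subgroup.map_id X
  refine ⟨a * c, ⟨A.mul_mem ha hc.1, ?_⟩, c⁻¹ * b, ⟨B.mul_mem (B.inv_mem hc.2) hb, h2⟩, by group⟩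
  have h3 : a * b ∈ Subgroup.normalizer (X : Set G) := by
    rwa [Fac.mem_normalizer_iff_map]
  have h4 : a * c = (a * b) * (c⁻¹ * b)⁻¹ := by group
  rw [h4]
  exact Subgroup.mul_mem _ h3 (Subgroup.inv_mem _ h2)

/-- a prime dividing the order of a product of two subgroups divides one of the orders -/
theorem dvd_card_of_factor [Finite G] {N A B : Subgroup G} {r : ℕ} (hr : r.Prime) (hA : A ≤ N) (hB : B ≤ N)
    (hAB : ∀ g ∈ N, ∃ a ∈ A, ∃ b ∈ B, g = a * b) (hd : r ∣ Nat.card N) : r ∣ Nat.card A ∨ r ∣ Nat.card B := by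
  by_contra hcon
  push Not at hcon
  have h1 : Nat.card N ∣ Nat.card A * Nat.card B := by
    -- `A` acts transitively on `N / B`
    have h2 : MulAction.orbit (A.subgroupOf N) (QuotientGroup.mk 1 : N ⧸ B.subgroupOf N) = Set.univ := by
      rw [Set.eq_univ_iff_forall]
      intro x
      obtain ⟨g, rfl⟩ := QuotientGroup.mk_surjective x
      obtain ⟨a, ha, b, hb, hg⟩ := hAB g g.2
      refine ⟨⟨⟨a, hA ha⟩, ha⟩, ?_⟩
      show (QuotientGroup.mk ((⟨a, hA ha⟩ : N) * 1) : N ⧸ B.subgroupOf N) = QuotientGroup.mk g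
      rw [mul_one, QuotientGroup.eq]
      have : (⟨a, hA ha⟩ : N)⁻¹ * g = ⟨b, hB hb⟩ := by
        apply Subtype.ext
        show a⁻¹ * (g : G) = b
        rw [hg]; group
      rw [this]
      exact hb
    have h3 := MulAction.index_stabilizer (A.subgroupOf N) (QuotientGroup.mk 1 : N ⧸ B.subgroupOf N)
    rw [h2, Set.ncard_univ] at h3
    have h4 : (B.subgroupOf N).index ∣ Nat.card (A.subgroupOf N) := by
      show Nat.card (N ⧸ B.subgroupOf N) ∣ _
      rw [← h3]
      exact Subgroup.index_dvd_card _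
    rw [← (B.subgroupOf N).card_mul_index, mul_comm]
    rw [card_subgroupOf, inf_eq_left.2 hA] at h4
    rw [card_subgroupOf B N, inf_eq_left.2 hB]
    exact Nat.mul_dvd_mul_right h4 _
  rcases (hr.dvd_mul).1 (hd.trans h1) with h | h
  · exact hcon.1 h
  · exact hcon.2 h

end abs

namespace Fac

variable {G : Type u} [Group G] {T A : Subgroup G} {φ : G ≃* G}

/-- elements of order prime to `|G : T|` lie in `T` -/
theorem mem_of_not_dvd [Finite G] (T : Subgroup G) [T.Normal] {r : ℕ} (hr : r.Prime) (hd : ¬ r ∣ T.index) {x : G}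
    {n : ℕ} (hx : x ^ r ^ n = 1) : x ∈ T := by
  rw [← QuotientGroup.eq_one_iff]
  have h1 : orderOf (QuotientGroup.mk x : G ⧸ T) ∣ r ^ n := by
    apply orderOf_dvd_of_pow_eq_one
    rw [← QuotientGroup.mk_pow, hx]; rfl
  have h2 : orderOf (QuotientGroup.mk x : G ⧸ T) ∣ Nat.card (G ⧸ T) := orderOf_dvd_natCard _
  have h3 : Nat.Coprime (r ^ n) (Nat.card (G ⧸ T)) := Nat.Coprime.pow_left _ ((Nat.Prime.coprime_iff_not_dvd hr).2 hd)
  exact orderOf_eq_one_iff.1 (Nat.eq_one_of_dvd_coprimes h3 h1 h2)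

/-- replacing `φ` by `φ` followed by a conjugation -/
theorem conj (h : Fac T A φ) (k : G) : Fac T A (φ.trans (MulAut.conj k)) where
  fin := h.fin
  normal := h.normal
  simple := h.simple
  nc := h.nc
  cent := h.cent
  coatom := h.coatom
  core := h.core
  fac g := by
    obtain ⟨a₀, ha₀, b₀, hb₀, hk⟩ := h.fac k
    obtain ⟨a₁, ha₁, b₁, hb₁, hg⟩ := h.fac (g * a₀)
    refine ⟨a₁ * a₀⁻¹, A.mul_mem ha₁ (A.inv_mem ha₀), b₀⁻¹ * b₁ * b₀,
      A.mul_mem (A.mul_mem (A.inv_mem hb₀) hb₁) hb₀, ?_⟩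
    show g = a₁ * a₀⁻¹ * (k * φ (b₀⁻¹ * b₁ * b₀) * k⁻¹)
    rw [hk, map_mul, map_mul, map_inv]
    have h1 : g = g * a₀ * a₀⁻¹ := by group
    rw [h1, hg]
    group

/-- **The local test.** -/
theorem loc (h : Fac T A φ) {r s : ℕ} (hr : r.Prime) (hs : s.Prime) (hrs : r ≠ s)
    (hrG : ¬ r ∣ T.index) (hsG : ¬ s ∣ T.index) (hsR : s ∣ Nat.card (A.subgroupOf T))
    (hcyc : ∀ P : Subgroup T, IsPGroup s P → IsCyclic P)
    (hx : ∃ x : T, orderOf x = r * s)
    (hN : ∀ y z : T, orderOf y = r → orderOf z = s → y * z * y⁻¹ ∈ Subgroup.zpowers z → y * z = z * y) :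
    ∃ x ∈ A.subgroupOf T, orderOf x = r * s := by
  have := h.fin
  have := h.normal
  have := Fact.mk hr
  have := Fact.mk hs
  obtain ⟨x, hx⟩ := hx
  -- `s`-subgroups of `G` are cyclic
  have hmem : ∀ {t : ℕ}, t.Prime → ¬ t ∣ T.index → ∀ P : Subgroup G, IsPGroup t P → P ≤ T := by
    intro t ht htG P hP z hz
    obtain ⟨n, hn⟩ := hP ⟨z, hz⟩
    exact mem_of_not_dvd T ht htG (x := z) (n := n) (congrArg Subtype.val hn)
  have hcycG : ∀ P : Subgroup G, IsPGroup s P → IsCyclic P := by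
    intro P hP
    have hPT := hmem hs hsG P hP
    have h1 : IsPGroup s (P.subgroupOf T) := hP.of_injective (Subgroup.subgroupOfEquivOfLe hPT).toMonoidHom
      (Subgroup.subgroupOfEquivOfLe hPT).injective
    have h2 := hcyc _ h1
    exact (Subgroup.subgroupOfEquivOfLe hPT).isCyclic.1 h2
  -- a subgroup of order `s` of `A`
  obtain ⟨⟨⟨z, hzT⟩, hzA⟩, hz1⟩ := exists_prime_orderOf_dvd_card' s hsR
  have hz1' : orderOf z = s := by
    rw [← hz1, ← Subgroup.orderOf_coe, ← Subgroup.orderOf_coe]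
  have hzA' : z ∈ A := hzA
  have ho : ∀ w : G, orderOf (φ w) = orderOf w := fun w => orderOf_injective φ.toMonoidHom φ.injective w
  obtain ⟨k, -, hk⟩ := conj_of_cyclic (K := (⊤ : Subgroup G)) (X := Subgroup.zpowers (φ z))
    (Y := Subgroup.zpowers z) (s := s) (fun P _ hP => hcycG P hP) le_top le_top
    (by rw [Nat.card_zpowers, ho, hz1']) (by rw [Nat.card_zpowers, hz1'])
  -- replace `φ`
  have h' := h.conj k
  have hzB : Subgroup.zpowers z ≤ A.map (φ.trans (MulAut.conj k)).toMonoidHom := by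
    rw [hk]
    rintro _ ⟨w, hw, rfl⟩
    obtain ⟨j, rfl⟩ := Subgroup.mem_zpowers_iff.1 hw
    refine ⟨z ^ j, A.zpow_mem hzA' j, ?_⟩
    show k * φ (z ^ j) * k⁻¹ = k * (φ z) ^ j * k⁻¹
    rw [map_zpow]
  clear hk
  revert h' hzB
  generalize φ.trans (MulAut.conj k) = ψ
  intro h' hzB
  set B := A.map ψ.toMonoidHom with hBdef
  have hAB : ∀ g : G, ∃ a ∈ A, ∃ b ∈ B, g = a * b := by
    intro g
    obtain ⟨a, ha, b, hb, rfl⟩ := h'.fac g
    exact ⟨a, ha, ψ b, ⟨b, hb, rfl⟩, rfl⟩
  have cX : Nat.card (Subgroup.zpowers z) = s := by rw [Nat.card_zpowers, hz1']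
  have hX : Subgroup.zpowers z ≤ A ⊓ B := le_inf ((Subgroup.zpowers_le).2 hzA') hzB
  have hz : z ∈ A ⊓ B := hX (Subgroup.mem_zpowers z)
  -- `r` divides `|N_G(X)|`
  have hrN : r ∣ Nat.card (Subgroup.normalizer ((Subgroup.zpowers z : Subgroup G) : Set G)) := by
    have hx' : orderOf (x : G) = r * s := by rw [Subgroup.orderOf_coe]; exact hx
    have hs1 : orderOf ((x : G) ^ r) = s := by
      rw [orderOf_pow, hx', Nat.gcd_eq_right (Dvd.intro _ rfl), Nat.mul_div_cancel_left _ hr.pos]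
    have hr1 : orderOf ((x : G) ^ s) = r := by
      rw [orderOf_pow, hx', Nat.gcd_eq_right (Dvd.intro_left _ rfl), Nat.mul_div_cancel _ hs.pos]
    obtain ⟨k, -, hk⟩ := conj_of_cyclic (K := (⊤ : Subgroup G)) (X := Subgroup.zpowers ((x : G) ^ r))
      (Y := Subgroup.zpowers z) (s := s) (fun P _ hP => hcycG P hP) le_top le_top
      (by rw [Nat.card_zpowers, hs1]) cX
    have hy : orderOf (k * (x : G) ^ s * k⁻¹) = r := by
      rw [← hr1]
      exact orderOf_injective (MulAut.conj k).toMonoidHom (MulAut.conj k).injective _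
    have hyN : k * (x : G) ^ s * k⁻¹ ∈ Subgroup.normalizer ((Subgroup.zpowers z : Subgroup G) : Set G) := by
      have h1 : k * (x : G) ^ s * k⁻¹ ∈ Subgroup.centralizer ((Subgroup.zpowers z : Subgroup G) : Set G) := by
        rw [Subgroup.mem_centralizer_iff]
        intro w hw
        rw [hk] at hw
        obtain ⟨v, hv, rfl⟩ := hw
        obtain ⟨j, rfl⟩ := Subgroup.mem_zpowers_iff.1 hv
        show k * ((x : G) ^ r) ^ j * k⁻¹ * (k * (x : G) ^ s * k⁻¹) =
          k * (x : G) ^ s * k⁻¹ * (k * ((x : G) ^ r) ^ j * k⁻¹)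
        have hcm : ((x : G) ^ r) ^ j * (x : G) ^ s = (x : G) ^ s * ((x : G) ^ r) ^ j :=
          ((((Commute.refl (x : G)).pow_left r).zpow_left j).pow_right s)
        calc k * ((x : G) ^ r) ^ j * k⁻¹ * (k * (x : G) ^ s * k⁻¹)
            = k * (((x : G) ^ r) ^ j * (x : G) ^ s) * k⁻¹ := by group
          _ = k * ((x : G) ^ s * ((x : G) ^ r) ^ j) * k⁻¹ := by rw [hcm]
          _ = k * (x : G) ^ s * k⁻¹ * (k * ((x : G) ^ r) ^ j * k⁻¹) := by group
      exact Subgroup.centralizer_le_normalizer _ h1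
    rw [← hy, ← Subgroup.orderOf_mk _ hyN]
    exact orderOf_dvd_natCard _
  -- one of the factors contains an element of order `r` normalising a subgroup of order `s`
  have key : ∀ y z : G, y ∈ A → z ∈ A → orderOf y = r → orderOf z = s →
      y * z * y⁻¹ ∈ Subgroup.zpowers z → ∃ x ∈ A.subgroupOf T, orderOf x = r * s := by
    intro y z hy hz hyr hzs hyz
    have hyT : y ∈ T := mem_of_not_dvd T hr hrG (n := 1) (by rw [pow_one, ← hyr, pow_orderOf_eq_one])
    have hzT : z ∈ T := mem_of_not_dvd T hs hsG (n := 1) (by rw [pow_one, ← hzs, pow_orderOf_eq_one])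
    have hc := hN ⟨y, hyT⟩ ⟨z, hzT⟩ (by rw [Subgroup.orderOf_mk, hyr]) (by rw [Subgroup.orderOf_mk, hzs]) (by
      obtain ⟨j, hj⟩ := Subgroup.mem_zpowers_iff.1 hyz
      rw [Subgroup.mem_zpowers_iff]
      exact ⟨j, Subtype.ext hj⟩)
    refine ⟨⟨y, hyT⟩ * ⟨z, hzT⟩, A.mul_mem hy hz, ?_⟩
    have hcm : Commute (⟨y, hyT⟩ : T) ⟨z, hzT⟩ := hc
    rw [hcm.orderOf_mul_eq_mul_orderOf_of_coprime, Subgroup.orderOf_mk, Subgroup.orderOf_mk, hyr, hzs]
    rw [Subgroup.orderOf_mk, Subgroup.orderOf_mk, hyr, hzs]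
    exact (Nat.coprime_primes hr hs).2 hrs
  have hfac : ∀ g ∈ Subgroup.normalizer ((Subgroup.zpowers z : Subgroup G) : Set G),
      ∃ a ∈ A ⊓ Subgroup.normalizer ((Subgroup.zpowers z : Subgroup G) : Set G),
      ∃ b ∈ B ⊓ Subgroup.normalizer ((Subgroup.zpowers z : Subgroup G) : Set G), g = a * b := fun g hg =>
    normalizer_factor hAB (fun P _ hP => hcycG P hP) hX cX hg
  rcases dvd_card_of_factor hr inf_le_right inf_le_right hfac hrN with hd | hd
  · obtain ⟨⟨y, hyA, hyN⟩, hy1⟩ := exists_prime_orderOf_dvd_card' r hd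
    refine key y z hyA hz.1 (by rw [← hy1, ← Subgroup.orderOf_coe]) hz1' ?_
    exact (Subgroup.mem_normalizer_iff.1 hyN z).1 (Subgroup.mem_zpowers z)
  · obtain ⟨⟨y, hyB, hyN⟩, hy1⟩ := exists_prime_orderOf_dvd_card' r hd
    obtain ⟨y', hy', rfl⟩ := hyB
    obtain ⟨z', hz', hzz⟩ := hz.2
    subst hzz
    have ho : ∀ w : G, orderOf (ψ w) = orderOf w := fun w => orderOf_injective ψ.toMonoidHom ψ.injective w
    refine key y' z' hy' hz' ?_ ?_ ?_
    · rw [← hy1, ← Subgroup.orderOf_coe]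
      exact (ho y').symm
    · rw [← hz1']
      exact (ho z').symm
    · have h1 := (Subgroup.mem_normalizer_iff.1 hyN _).1 (Subgroup.mem_zpowers (ψ.toMonoidHom z'))
      obtain ⟨j, hj⟩ := Subgroup.mem_zpowers_iff.1 h1
      rw [Subgroup.mem_zpowers_iff]
      refine ⟨j, ψ.injective ?_⟩
      rw [map_zpow, map_mul, map_mul, map_inv]
      exact hj

end Fac

end Cfsg.Agent.H997.PF
end

-- part: H997/PF/Rows
section
/-!
# Rows for `S3522` (helper997)

`Kill T d R` : tests for a subgroup `R` of a simple group `T` which imply `R ≠ A ∩ T` for every primitive factorization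
`G = A * φ(A)` with socle `T` and `|G : T| = d` (`Fac T A φ`).  Here `d` is a PROPER divisor of `|Out T|`
(`Fac.index_dvd_out`, `Fac.index_ne`).  `Row T` : `T` is not the socle of a primitive factorization.
-/

set_option autoImplicit false

namespace Cfsg.Agent.H997.PF

open Subgroup Cfsg.Agent.H938.Sax

universe u

/-- the data of the local test: `r`, `s` primes not dividing `d`, `s`-subgroups are cyclic, elements of order `r`
normalising a group of order `s` centralise it, `T` has an element of order `r * s` -/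
structure LD (T : Type*) [Group T] (d r s : ℕ) : Prop where
  hr : r.Prime
  hs : s.Prime
  hrs : r ≠ s
  hrO : ¬ r ∣ d
  hsO : ¬ s ∣ d
  cyc : ∀ P : Subgroup T, IsPGroup s P → IsCyclic P
  ex : ∃ x : T, orderOf x = r * s
  comm : ∀ y z : T, orderOf y = r → orderOf z = s → y * z * y⁻¹ ∈ Subgroup.zpowers z → y * z = z * y

/-- tests for a subgroup `R` of `T`, `d = |G : T|` -/
inductive Kill (T : Type*) [Group T] (d : ℕ) (R : Subgroup T) : Prop
  /-- a prime is missing -/
  | pgap (h : PGap T R) : Kill T d R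
  /-- the `v`-part of the order equation `|T| ∣ |R|² d` -/
  | num {v k l m : ℕ} (hv : v.Prime) (hT : v ^ k ∣ Nat.card T) (hR : ¬ v ^ (l + 1) ∣ Nat.card R)
      (hO : ¬ v ^ (m + 1) ∣ d) (hlt : 2 * l + m < k) : Kill T d R
  /-- the local test -/
  | loc {r s : ℕ} (h : LD T d r s) (hR : ∀ x ∈ R, orderOf x ≠ r * s) : Kill T d R

theorem Kill.mono {T : Type*} [Group T] [Finite T] {d : ℕ} {R M : Subgroup T} (h : Kill T d M) (hle : R ≤ M) :
    Kill T d R := by
  cases h with
  | pgap h => exact .pgap (pgap_mono hle h)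
  | num hv hT hR hO hlt => exact .num hv hT (fun h => hR (h.trans (Subgroup.card_dvd_of_le hle))) hO hlt
  | loc h hR => exact .loc h fun x hx => hR x (hle hx)

/-- `|Out|` is an isomorphism invariant -/
theorem card_out_congr {T S : Type*} [Group T] [Group S] (e : T ≃* S) :
    Nat.card (Cfsg.Out T) = Nat.card (Cfsg.Out S) := by
  have h1 : (Cfsg.Inn T).map (MulAut.congr e).toMonoidHom = Cfsg.Inn S := by
    ext f
    constructor
    · rintro ⟨_, ⟨t, rfl⟩, rfl⟩
      refine ⟨e t, ?_⟩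
      ext s
      show e t * s * (e t)⁻¹ = e (t * e.symm s * t⁻¹)
      rw [map_mul, map_mul, map_inv, e.apply_symm_apply]
    · rintro ⟨s, rfl⟩
      refine ⟨MulAut.conj (e.symm s), ⟨e.symm s, rfl⟩, ?_⟩
      ext x
      show e (e.symm s * e.symm x * (e.symm s)⁻¹) = s * x * s⁻¹
      rw [map_mul, map_mul, map_inv, e.apply_symm_apply, e.apply_symm_apply]
  show (Cfsg.Inn T).index = (Cfsg.Inn S).index
  rw [← h1]
  exact (Subgroup.index_map_equiv _ (MulAut.congr e)).symm

theorem LD.congr {T S : Type*} [Group T] [Group S] {d r s : ℕ} (e : T ≃* S) (h : LD T d r s) : LD S d r s where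
  hr := h.hr
  hs := h.hs
  hrs := h.hrs
  hrO := h.hrO
  hsO := h.hsO
  cyc P hP := by
    have h1 := h.cyc (P.map e.symm.toMonoidHom) (hP.map _)
    exact isCyclic_of_injective (P.equivMapOfInjective e.symm.toMonoidHom e.symm.injective).toMonoidHom
      (P.equivMapOfInjective e.symm.toMonoidHom e.symm.injective).injective
  ex := by
    obtain ⟨x, hx⟩ := h.ex
    exact ⟨e x, by rw [orderOf_mulEquiv, hx]⟩
  comm y z hy hz hyz := by
    have h1 := h.comm (e.symm y) (e.symm z) (by rw [orderOf_mulEquiv, hy]) (by rw [orderOf_mulEquiv, hz]) (by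
      obtain ⟨j, hj⟩ := Subgroup.mem_zpowers_iff.1 hyz
      rw [Subgroup.mem_zpowers_iff]
      refine ⟨j, ?_⟩
      rw [← map_zpow, hj, map_mul, map_mul, map_inv])
    have h2 := congrArg e h1
    simpa using h2

theorem Kill.congr {T S : Type*} [Group T] [Group S] {d : ℕ} (e : T ≃* S) {R : Subgroup S}
    (h : Kill T d (R.comap e.toMonoidHom)) : Kill S d R := by
  cases h with
  | pgap h => exact .pgap (h.congr e)
  | @num v k l m hv hT hR hO hlt =>
    refine .num (v := v) (k := k) (l := l) (m := m) hv ?_ ?_ hO hlt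
    · rwa [← Nat.card_congr e.toEquiv]
    · rwa [← card_comap e R]
  | loc h hR =>
    refine .loc (h.congr e) fun x hx ho => hR (e.symm x) ?_ (by rw [orderOf_mulEquiv, ho])
    show e (e.symm x) ∈ R
    rwa [e.apply_symm_apply]

theorem Kill.map {T : Type*} [Group T] {d : ℕ} {R : Subgroup T} (α : MulAut T)
    (h : Kill T d (R.map α.toMonoidHom)) : Kill T d R := by
  have h1 : R.map α.toMonoidHom = R.comap (α⁻¹ : MulAut T).toMonoidHom := by
    ext x
    constructor
    · rintro ⟨y, hy, rfl⟩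
      show α⁻¹ (α y) ∈ R
      rwa [MulAut.inv_apply_self]
    · intro hx
      exact ⟨_, hx, MulAut.apply_inv_self _ _ _⟩
  rw [h1] at h
  exact h.congr (α⁻¹ : MulAut T)

/-- proper subgroups of `T` are killed or contained in a unique member of a `T`-class `𝓜` of proper subgroups
(`𝓜 = ∅` : all proper subgroups are killed) -/
structure IsFam (T : Type*) [Group T] (d : ℕ) (𝓜 : Set (Subgroup T)) : Prop where
  ne_top : ∀ M ∈ 𝓜, M ≠ ⊤
  exi : ∀ K : Subgroup T, K ≠ ⊤ → Kill T d K ∨ ∃ M ∈ 𝓜, K ≤ M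
  uni : ∀ K : Subgroup T, Kill T d K ∨ ∀ M ∈ 𝓜, ∀ M' ∈ 𝓜, K ≤ M → K ≤ M' → M = M'
  tr : ∀ M ∈ 𝓜, ∀ M' ∈ 𝓜, ∃ t : T, M' = M.map (MulAut.conj t).toMonoidHom

/-- `T` is not the socle of a primitive factorization `G = A * φ(A)`. -/
def Row (T : Type*) [Group T] : Prop :=
  ∀ d : ℕ, d ∣ Nat.card (Cfsg.Out T) → d ≠ Nat.card (Cfsg.Out T) → ∃ 𝓜 : Set (Subgroup T), IsFam T d 𝓜

theorem Row.out {T : Type*} [Group T] (h : Nat.card (Cfsg.Out T) = 1) : Row T := fun d h1 h2 => by
  rw [h, Nat.dvd_one] at h1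
  exact absurd (h1.trans h.symm) h2

theorem IsFam.empty {T : Type*} [Group T] {d : ℕ} (h : ∀ K : Subgroup T, K ≠ ⊤ → Kill T d K) : IsFam T d ∅ where
  ne_top _ h := absurd h (Set.notMem_empty _)
  exi K hK := Or.inl (h K hK)
  uni _ := Or.inr fun _ h => absurd h (Set.notMem_empty _)
  tr _ h := absurd h (Set.notMem_empty _)

theorem Row.kill {T : Type*} [Group T]
    (h : ∀ d : ℕ, d ∣ Nat.card (Cfsg.Out T) → d ≠ Nat.card (Cfsg.Out T) → ∀ K : Subgroup T, K ≠ ⊤ → Kill T d K) :
    Row T := fun d h1 h2 => ⟨∅, .empty (h d h1 h2)⟩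

theorem Row.pgap {T : Type*} [Group T] (h : ∀ K : Subgroup T, K ≠ ⊤ → PGap T K) : Row T :=
  .kill fun _ _ _ K hK => .pgap (h K hK)

/-- `|Out T| = 2` : `d = 1` -/
theorem Row.kill_two {T : Type*} [Group T] (h2 : Nat.card (Cfsg.Out T) = 2)
    (h : ∀ K : Subgroup T, K ≠ ⊤ → Kill T 1 K) : Row T := by
  refine .kill fun d hd hne => ?_
  rw [h2] at hd hne
  have h3 : d = 1 := ((Nat.dvd_prime Nat.prime_two).1 hd).resolve_right hne
  subst h3
  exact h

/-- the order of `R` is given, `d = 1` : `|T| ∤ |R|²`; use it in the form `v ^ k ∣ |T|`, `¬ v ^ (l + 1) ∣ |R|`,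
`2 l < k` -/
theorem Kill.num_one {T : Type*} [Group T] {R : Subgroup T} {v k l : ℕ} (hv : v.Prime) (hT : v ^ k ∣ Nat.card T)
    (hR : ¬ v ^ (l + 1) ∣ Nat.card R) (hlt : 2 * l < k) : Kill T 1 R :=
  .num (m := 0) hv hT hR (by rw [zero_add, pow_one, Nat.dvd_one]; exact hv.one_lt.ne') (by omega)

/-- families determined by the subgroups of prime order `r`, when the `r`-subgroups are cyclic -/
theorem IsFam.of_prime {T : Type*} [Group T] [Finite T] {d r : ℕ} (hr : r.Prime) (hrT : r ∣ Nat.card T)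
    (hcyc : ∀ P : Subgroup T, IsPGroup r P → IsCyclic P) (𝓜 : Set (Subgroup T)) (ne_top : ∀ M ∈ 𝓜, M ≠ ⊤)
    (hconj : ∀ M ∈ 𝓜, ∀ t : T, M.map (MulAut.conj t).toMonoidHom ∈ 𝓜)
    (hd : ∀ M ∈ 𝓜, r ∣ Nat.card M)
    (huni : ∀ x : T, orderOf x = r → ∀ M ∈ 𝓜, ∀ M' ∈ 𝓜, x ∈ M → x ∈ M' → M = M')
    (exi : ∀ K : Subgroup T, K ≠ ⊤ → Kill T d K ∨ ∃ M ∈ 𝓜, K ≤ M) : IsFam T d 𝓜 where
  ne_top := ne_top
  exi := exi
  uni K := by
    by_cases hK : r ∣ Nat.card K
    · right
      have := Fact.mk hr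
      obtain ⟨x, hx⟩ := exists_prime_orderOf_dvd_card' r hK
      intro M hM M' hM' h1 h2
      exact huni x (by rw [← hx, ← Subgroup.orderOf_coe]) M hM M' hM' (h1 x.2) (h2 x.2)
    · exact Or.inl (.pgap ⟨r, hr, hrT, hK⟩)
  tr M hM M' hM' := by
    have := Fact.mk hr
    obtain ⟨x, hx⟩ := exists_prime_orderOf_dvd_card' r (hd M hM)
    obtain ⟨y, hy⟩ := exists_prime_orderOf_dvd_card' r (hd M' hM')
    have hx' : orderOf (x : T) = r := by rw [← hx, ← Subgroup.orderOf_coe]
    have hy' : orderOf (y : T) = r := by rw [← hy, ← Subgroup.orderOf_coe]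
    obtain ⟨t, -, ht⟩ := conj_of_cyclic (K := (⊤ : Subgroup T)) (X := Subgroup.zpowers (x : T))
      (Y := Subgroup.zpowers (y : T)) (s := r) (fun P _ hP => hcyc P hP) le_top le_top
      (by rw [Nat.card_zpowers, hx']) (by rw [Nat.card_zpowers, hy'])
    refine ⟨t, huni y hy' M' hM' _ (hconj M hM t) y.2 ?_⟩
    have h1 : (y : T) ∈ (Subgroup.zpowers (x : T)).map (MulAut.conj t).toMonoidHom := by
      rw [← ht]; exact Subgroup.mem_zpowers _
    exact Subgroup.map_mono ((Subgroup.zpowers_le).2 x.2) h1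

theorem comap_ne_top {T S : Type*} [Group T] [Group S] (e : T ≃* S) {K : Subgroup S} (h : K ≠ ⊤) :
    K.comap e.toMonoidHom ≠ ⊤ := by
  intro h1
  apply h
  rw [eq_top_iff]
  intro x _
  have h2 : e.symm x ∈ K.comap e.toMonoidHom := by rw [h1]; trivial
  have h3 : e (e.symm x) ∈ K := h2
  rwa [e.apply_symm_apply] at h3

theorem IsFam.congr {T S : Type*} [Group T] [Group S] {d : ℕ} (e : T ≃* S) {𝓜 : Set (Subgroup T)}
    (h : IsFam T d 𝓜) : IsFam S d {M | M.comap e.toMonoidHom ∈ 𝓜} := by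
  have key : ∀ K : Subgroup S, (K.comap e.toMonoidHom).comap e.symm.toMonoidHom = K := by
    intro K
    ext x
    show e (e.symm x) ∈ K ↔ _
    rw [e.apply_symm_apply]
  have key' : ∀ K : Subgroup T, (K.comap e.symm.toMonoidHom).comap e.toMonoidHom = K := by
    intro K
    ext x
    show e.symm (e x) ∈ K ↔ _
    rw [e.symm_apply_apply]
  refine ⟨?_, ?_, ?_, ?_⟩
  · rintro M hM rfl
    exact h.ne_top _ hM rfl
  · intro K hK
    rcases h.exi _ (comap_ne_top e hK) with h | ⟨M, hM, h⟩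
    · exact Or.inl (h.congr e)
    · refine Or.inr ⟨M.comap e.symm.toMonoidHom, ?_, ?_⟩
      · show (M.comap e.symm.toMonoidHom).comap e.toMonoidHom ∈ 𝓜
        rwa [key']
      · rw [← key K]
        exact Subgroup.comap_mono h
  · intro K
    rcases h.uni (K.comap e.toMonoidHom) with h | h
    · exact Or.inl (h.congr e)
    · refine Or.inr fun M hM M' hM' hKM hKM' => ?_
      have := h _ hM _ hM' (Subgroup.comap_mono hKM) (Subgroup.comap_mono hKM')
      rw [← key M, this, key M']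
  · intro M hM M' hM'
    obtain ⟨t, ht⟩ := h.tr _ hM _ hM'
    refine ⟨e t, ?_⟩
    rw [← key M', ht]
    ext x
    constructor
    · rintro ⟨y, hy, hyx⟩
      have h5 : t * y * t⁻¹ = e.symm x := hyx
      refine ⟨e y, hy, ?_⟩
      show e t * e y * (e t)⁻¹ = x
      rw [← map_mul, ← map_inv, ← map_mul, h5, e.apply_symm_apply]
    · rintro ⟨y, hy, rfl⟩
      refine ⟨e.symm y, ?_, ?_⟩
      · show e (e.symm y) ∈ M
        rwa [e.apply_symm_apply]
      · show t * e.symm y * t⁻¹ = e.symm (e t * y * (e t)⁻¹)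
        rw [map_mul, map_mul, map_inv, e.symm_apply_apply]

theorem Row.congr {T S : Type*} [Group T] [Group S] (e : T ≃* S) (h : Row T) : Row S := by
  intro d hd hne
  rw [← card_out_congr e] at hd hne
  obtain ⟨𝓜, h1⟩ := h d hd hne
  exact ⟨_, h1.congr e⟩

namespace Fac

variable {G : Type u} [Group G] {T A : Subgroup G} {φ : G ≃* G}

/-- `G` is not the full automorphism group of `T` -/
theorem index_ne (h : Fac T A φ) : T.index ≠ Nat.card (Cfsg.Out T) := by
  intro hidx
  have := h.fin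
  have := h.normal
  have := h.simple
  have hfinA : Finite (MulAut T) := Finite.of_injective (fun f : MulAut T => (f : T → T)) DFunLike.coe_injective
  have hinj : Function.Injective (MulAut.conjNormal : G →* MulAut T) := by
    rw [injective_iff_map_eq_one]
    intro g hg
    have h1 : g ∈ Subgroup.centralizer (T : Set G) := by
      rw [Subgroup.mem_centralizer_iff]
      intro x hx
      have h2 : (MulAut.conjNormal g : MulAut T) ⟨x, hx⟩ = ⟨x, hx⟩ := by rw [hg]; rfl
      have h3 := congrArg Subtype.val h2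
      rw [MulAut.conjNormal_apply] at h3
      change g * x * g⁻¹ = x at h3
      calc x * g = g * x * g⁻¹ * g := by rw [h3]
        _ = g * x := by group
    rw [h.cent] at h1
    exact h1
  have hinn : Nat.card (Cfsg.Inn T) = Nat.card T := by
    have h1 : Function.Injective (MulAut.conj : T →* MulAut T) := by
      intro x y hxy
      have h2 : (MulAut.conjNormal (x : G) : MulAut T) = MulAut.conjNormal (y : G) := by
        ext t
        rw [MulAut.conjNormal_apply, MulAut.conjNormal_apply]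
        exact congrArg Subtype.val (congrArg (fun f : MulAut T => f t) hxy)
      exact Subtype.ext (hinj h2)
    exact (Nat.card_congr (MonoidHom.ofInjective h1).toEquiv).symm
  have hcard : Nat.card (MulAut T) = Nat.card G := by
    have h1 := (Cfsg.Inn T).card_mul_index
    rw [hinn] at h1
    have h2 := T.card_mul_index
    rw [hidx] at h2
    exact h1.symm.trans h2
  have hsurj : Function.Surjective (MulAut.conjNormal : G →* MulAut T) :=
    ((Nat.bijective_iff_injective_and_card _).2 ⟨hinj, hcard.symm⟩).2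
  obtain ⟨g, hg⟩ := hsurj h.restr
  have hφt : ∀ t ∈ T, φ t = g * t * g⁻¹ := by
    intro t ht
    have h1 := congrArg (fun f : MulAut T => ((f ⟨t, ht⟩ : T) : G)) hg
    simp only [MulAut.conjNormal_apply] at h1
    exact h1.symm
  refine h.not_conj g ?_
  congr 1
  ext x
  show φ x = g * x * g⁻¹
  have h1 : (g * x * g⁻¹)⁻¹ * φ x ∈ Subgroup.centralizer (T : Set G) := by
    rw [Subgroup.mem_centralizer_iff]
    intro t ht
    -- `t = g s g⁻¹`
    have hs : g⁻¹ * t * g ∈ T := by simpa using h.normal.conj_mem t ht g⁻¹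
    have hxs : x * (g⁻¹ * t * g) * x⁻¹ ∈ T := h.normal.conj_mem _ hs x
    have h2 := hφt _ hxs
    rw [map_mul, map_mul, map_inv, hφt _ hs] at h2
    have h3 : g * (g⁻¹ * t * g) * g⁻¹ = t := by group
    rw [h3] at h2
    have h4 : φ x * t = g * (x * (g⁻¹ * t * g) * x⁻¹) * g⁻¹ * φ x := by
      rw [← h2]; group
    calc t * ((g * x * g⁻¹)⁻¹ * φ x)
        = (g * x * g⁻¹)⁻¹ * (g * (x * (g⁻¹ * t * g) * x⁻¹) * g⁻¹ * φ x) := by group
      _ = (g * x * g⁻¹)⁻¹ * (φ x * t) := by rw [h4]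
      _ = (g * x * g⁻¹)⁻¹ * φ x * t := by group
  rw [h.cent, Subgroup.mem_bot] at h1
  calc φ x = (g * x * g⁻¹) * ((g * x * g⁻¹)⁻¹ * φ x) := by group
    _ = g * x * g⁻¹ := by rw [h1, mul_one]

/-- the tests are correct -/
theorem not_kill (h : Fac T A φ)
    (hO : ∀ v : ℕ, v.Prime → v ∣ Nat.card T → ¬ v ^ (Nat.card T).factorization v ∣ Nat.card (Cfsg.Out T)) :
    ¬ Kill T T.index (A.subgroupOf T) := by
  intro hk
  have := h.fin
  cases hk with
  | pgap hk => exact h.full hO hk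
  | @num v k l m hv hT hR hO hlt =>
    have h1 := hT.trans h.card_dvd
    have hr0 : Nat.card (A.subgroupOf T) ≠ 0 := Nat.card_pos.ne'
    have ho0 : T.index ≠ 0 := Subgroup.index_ne_zero_of_finite
    rw [hv.pow_dvd_iff_le_factorization (mul_ne_zero (mul_ne_zero hr0 hr0) ho0),
      Nat.factorization_mul (mul_ne_zero hr0 hr0) ho0, Nat.factorization_mul hr0 hr0] at h1
    rw [hv.pow_dvd_iff_le_factorization hr0] at hR
    rw [hv.pow_dvd_iff_le_factorization ho0] at hO
    simp only [Finsupp.add_apply] at h1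
    omega
  | @loc r s hl hR =>
    obtain ⟨x, hx, ho⟩ := h.loc hl.hr hl.hs hl.hrs hl.hrO hl.hsO
      (by
        by_contra hcon
        refine h.full hO ⟨s, hl.hs, ?_, hcon⟩
        obtain ⟨x, hx⟩ := hl.ex
        have h2 : s ∣ orderOf x := by rw [hx]; exact Dvd.intro_left _ rfl
        exact h2.trans (orderOf_dvd_natCard x)) hl.cyc hl.ex hl.comm
    exact hR x hx ho

/-- **a row excludes primitive factorizations** -/
theorem not_row (h : Fac T A φ)
    (hO : ∀ v : ℕ, v.Prime → v ∣ Nat.card T → ¬ v ^ (Nat.card T).factorization v ∣ Nat.card (Cfsg.Out T))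
    (hR : Row T) : False := by
  have hfin := h.fin
  have hnor := h.normal
  have hsim := h.simple
  have hk := h.not_kill hO
  obtain ⟨𝓜, ne_top, exi, uni, tr⟩ := hR _ h.index_dvd_out h.index_ne
  obtain ⟨M, hM, hRM⟩ := (exi _ h.ne_top).resolve_left hk
  have hMk : ¬ Kill T T.index M := fun h1 => hk (h1.mono hRM)
  -- images of members
  have map_mem : ∀ {M : Subgroup T}, M ∈ 𝓜 → ¬ Kill T T.index M → ∀ α : MulAut T, M.map α.toMonoidHom ∈ 𝓜 := by
    intro M hM hMf α
    have hf : ¬ Kill T T.index (M.map α.toMonoidHom) := fun h => hMf (h.map α)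
    have hne : M.map α.toMonoidHom ≠ ⊤ := by
      intro h
      apply ne_top M hM
      apply Subgroup.eq_top_of_card_eq
      rw [← card_map α M, h, Subgroup.card_top]
    obtain ⟨M', hM', h1⟩ := (exi _ hne).resolve_left hf
    have hf' : ¬ Kill T T.index M' := fun h => hf (h.mono h1)
    have hf'' : ¬ Kill T T.index (M'.map (α⁻¹ : MulAut T).toMonoidHom) := fun h => hf' (h.map _)
    have hne' : M'.map (α⁻¹ : MulAut T).toMonoidHom ≠ ⊤ := by
      intro h
      apply ne_top M' hM'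
      apply Subgroup.eq_top_of_card_eq
      rw [← card_map α⁻¹ M', h, Subgroup.card_top]
    obtain ⟨M'', hM'', h2⟩ := (exi _ hne').resolve_left hf''
    have h3 : M ≤ M'.map (α⁻¹ : MulAut T).toMonoidHom := by
      intro x hx
      refine ⟨α x, h1 ⟨x, hx, rfl⟩, ?_⟩
      show α⁻¹ (α x) = x
      simp
    have h4 : M = M'' := (uni M).resolve_left hMf M hM M'' hM'' le_rfl (h3.trans h2)
    have h5 : M' ≤ M.map α.toMonoidHom := by
      intro x hx
      refine ⟨α⁻¹ x, ?_, ?_⟩
      · rw [h4]; exact h2 ⟨x, hx, rfl⟩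
      · show α (α⁻¹ x) = x
        simp
    rw [← le_antisymm h5 h1]
    exact hM'
  -- `A` is the normalizer of `M`
  have hA : A = Subgroup.normalizer ((M.map T.subtype : Subgroup G) : Set G) := by
    have hle : A ≤ Subgroup.normalizer ((M.map T.subtype : Subgroup G) : Set G) := by
      intro a ha
      rw [mem_normalizer_iff_map, ← map_conjNormal]
      congr 1
      refine ((uni _).resolve_left hk M hM _ (map_mem hM hMk _) hRM ?_).symm
      intro x hx
      refine ⟨(MulAut.conjNormal a : MulAut T)⁻¹ x, hRM ?_, ?_⟩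
      · rw [← map_inv]
        show ((MulAut.conjNormal a⁻¹ x : T) : G) ∈ A
        rw [MulAut.conjNormal_apply]
        exact A.mul_mem (A.mul_mem (A.inv_mem ha) hx) (A.inv_mem (A.inv_mem ha))
      · show (MulAut.conjNormal a : MulAut T) ((MulAut.conjNormal a : MulAut T)⁻¹ x) = x
        simp
    rcases h.coatom.le_iff.1 hle with h1 | h1
    · exfalso
      have h2 : (M.map T.subtype).Normal := Subgroup.normalizer_eq_top_iff.1 h1
      have h3 : M.Normal := by
        have h4 : (M.map T.subtype).subgroupOf T = M := by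
          ext x
          simp [Subgroup.mem_subgroupOf]
        rw [← h4]
        exact h2.subgroupOf T
      rcases h3.eq_bot_or_eq_top with h4 | h4
      · exact ne_bot_of_not_pgap (fun h5 => hMk (.pgap h5)) h4
      · exact ne_top M hM h4
    · exact h1.symm
  obtain ⟨t, ht⟩ := tr M hM _ (map_mem hM hMk h.restr)
  refine h.not_conj (t : G) ?_
  rw [hA, map_normalizer, ← h.map_restr, ht]
  have h1 : (M.map (MulAut.conj t).toMonoidHom).map T.subtype =
      (M.map T.subtype).map (MulAut.conj (t : G)).toMonoidHom := by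
    ext x
    constructor
    · rintro ⟨_, ⟨y, hy, rfl⟩, rfl⟩
      exact ⟨y, ⟨y, hy, rfl⟩, rfl⟩
    · rintro ⟨_, ⟨y, hy, rfl⟩, rfl⟩
      exact ⟨_, ⟨y, hy, rfl⟩, rfl⟩
  rw [h1, ← map_normalizer]

end Fac

end Cfsg.Agent.H997.PF
end

private theorem dce_97d4f10e0bb0 : _root_.True := by
  try have : _root_.True := by simp only [_root_.Cfsg.Agent.H997.PF.Fac.restr.congr_simp]
  exact _root_.True.intro
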